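import Groth.Agent.L07.PrinParts.Push
import Groth.Agent.L16.AffineBC.Pullback
import Groth.Agent.L16.CohClosedPush
import Groth.Agent.L16.QcqsPush
import Groth.Agent.L20.ModStalk
import Groth.Agent.L12.FPProd
import Groth.Agent.L19.Approx.Closed
import Groth.Agent.L06.RelFPModules
import Groth.Agent.L23.SchemeFacts

/-!
Quasi-coherence and finiteness of sheaves of principal parts (EGA IV 16.4, 16.7).
-/

universe u

open CategoryTheory CategoryTheory.Limits AlgebraicGeometry TopologicalSpace Topology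

namespace Groth.L07.PrinParts

set_option linter.style.haveILetI false
set_option backward.isDefEq.respectTransparency.types false
set_option backward.isDefEq.respectTransparency false

variable {X Y S : Scheme.{u}}

theorem isFP_pullback (g : X ⟶ Y) {F : Y.Modules} (hF : CohB1.IsFP F) :
    CohB1.IsFP ((Scheme.Modules.pullback g).obj F) := by
  haveI : Coh.IsQCoh F := by haveI := hF; infer_instance
  refine Groth.L19.isFP_of_tilde_charts _ fun x => ?_
  obtain ⟨V, hV, hxV, -⟩ := exists_isAffineOpen_mem_and_subset (TopologicalSpace.Opens.mem_top x)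
  haveI : Coh.IsQCoh ((Scheme.Modules.pullback g).obj F) := Groth.L16.AffineBC.isQCoh_pullback g F
  let G := ((Scheme.Modules.pullback g).obj F).restrict hV.fromSpec
  haveI : G.IsQuasicoherent := Scheme.Modules.isQuasicoherent_restrictFunctor _ _
  have hG : CohB1.IsFP G := Groth.L12.FPProd.isFP_pullback_spec (hV.fromSpec ≫ g) F hF
    ((Scheme.Modules.restrictFunctorIsoPullback hV.fromSpec).app _ ≪≫
      (Scheme.Modules.pullbackComp hV.fromSpec g).app F)
  refine ⟨_, hV.fromSpec, inferInstance, (moduleSpecΓFunctor (R := Γ(X, V))).obj G,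
    hV.opensRange_fromSpec.ge hxV, ?_, ⟨(asIso G.fromTildeΓ).symm⟩⟩
  have h1 := Groth.L20.ModStalk.finitePresentation_sections G hG (isAffineOpen_top _)
  exact (Groth.L06.RelFPRing.fp_iff_of (Scheme.ΓSpecIso Γ(X, V)).inv.hom
    (RingHom.Finite.of_surjective _ (Scheme.ΓSpecIso Γ(X, V)).symm.commRingCatIsoToRingEquiv.surjective)
    (RingHom.FinitePresentation.of_surjective _ (Scheme.ΓSpecIso Γ(X, V)).symm.commRingCatIsoToRingEquiv.surjective
      (((RingHom.injective_iff_ker_eq_bot (Scheme.ΓSpecIso Γ(X, V)).inv.hom).mp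
        (Scheme.ΓSpecIso Γ(X, V)).symm.commRingCatIsoToRingEquiv.injective) ▸ Submodule.fg_bot))
    Γ(G, ⊤)).mp h1

theorem isCoh_pushforward_finite (f : X ⟶ Y) [IsFinite f] {M : X.Modules} (hM : Coh.IsCoh M) :
    Coh.IsCoh ((Scheme.Modules.pushforward f).obj M) := by
  haveI : Coh.IsQCoh M := hM.1
  haveI : Coh.IsQCoh ((Scheme.Modules.pushforward f).obj M) := Groth.L16.QcqsPush.isQCoh_push M f
  refine Groth.L16.CohClosedPush.isCoh_of_finite_sections _ fun y => ?_
  obtain ⟨V, hV, hyV, -⟩ := exists_isAffineOpen_mem_and_subset (TopologicalSpace.Opens.mem_top y)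
  refine ⟨V, hyV, hV, ?_⟩
  letI : Algebra Γ(Y, V) Γ(X, f ⁻¹ᵁ V) := (f.app V).hom.toAlgebra
  haveI : Module.Finite Γ(Y, V) Γ(X, f ⁻¹ᵁ V) := IsFinite.finite_app f V hV
  haveI : Module.Finite Γ(X, f ⁻¹ᵁ V) Γ(M, f ⁻¹ᵁ V) :=
    Groth.L20.ModStalk.finite_sections M hM (hV.preimage f)
  letI : Module Γ(Y, V) Γ(M, f ⁻¹ᵁ V) := Module.compHom _ (f.app V).hom
  haveI : IsScalarTower Γ(Y, V) Γ(X, f ⁻¹ᵁ V) Γ(M, f ⁻¹ᵁ V) :=
    ⟨fun a b m => mul_smul ((f.app V).hom a) b m⟩
  exact (Module.Finite.trans Γ(X, f ⁻¹ᵁ V) Γ(M, f ⁻¹ᵁ V) : Module.Finite Γ(Y, V) Γ(M, f ⁻¹ᵁ V))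

theorem isQCoh_PMod (f : X ⟶ S) (n : ℕ) {F : X.Modules} (hF : Coh.IsQCoh F) :
    Coh.IsQCoh (PrinPart.PMod f n F) := by
  haveI := hF
  haveI : Coh.IsQCoh ((Scheme.Modules.pullback (PrinPart.pr2 f n)).obj F) :=
    Groth.L16.AffineBC.isQCoh_pullback _ F
  have hh := isHomeomorph_pr1 f n
  haveI : QuasiCompact (PrinPart.pr1 f n) := ⟨fun U _ hUc => by
    rw [show (PrinPart.pr1 f n : PrinPart.nbhd f n → X) ⁻¹' U = hh.homeomorph.symm '' U by
      rw [Homeomorph.image_eq_preimage_symm, Homeomorph.symm_symm]; rfl]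
    exact hUc.image hh.homeomorph.symm.continuous⟩
  haveI : IsSeparated (PrinPart.pr1 f n) := isSeparated_of_section _ (PrinPart.toNbhd f n)
    (PrinPart.toNbhd_pr1 f n) (PrinPart.toInfNbhd_surjective _ n)
  exact Groth.L16.QcqsPush.isQCoh_push _ (PrinPart.pr1 f n)

theorem isFinite_pr1 (f : X ⟶ S) [LocallyOfFiniteType f] (n : ℕ) : IsFinite (PrinPart.pr1 f n) := by
  haveI : LocallyOfFiniteType (PrinPart.pr1 f n) := by
    unfold PrinPart.pr1 PrinPart.nbhdι PrinPart.infNbhdι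
    infer_instance
  exact isFinite_of_section _ (PrinPart.toNbhd f n) (PrinPart.toNbhd_pr1 f n)
    (PrinPart.toInfNbhd_surjective _ n)

theorem isCoh_PMod (f : X ⟶ S) [LocallyOfFiniteType f] (n : ℕ) {F : X.Modules} (hF : Coh.IsCoh F) :
    Coh.IsCoh (PrinPart.PMod f n F) := by
  haveI := isFinite_pr1 f n
  exact isCoh_pushforward_finite _ (Groth.L16.AffineBC.isCoh_pullback (PrinPart.pr2 f n) hF)

theorem lfp_infNbhdι {Z W : Scheme.{u}} (i : Z ⟶ W) [IsClosedImmersion i] [LocallyOfFinitePresentation i]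
    (n : ℕ) : LocallyOfFinitePresentation (PrinPart.infNbhdι i n) := by
  refine Groth.L19.Approx.lfp_subschemeι fun U hU => ?_
  rw [Scheme.IdealSheafData.ideal_pow, Pi.pow_apply]
  exact (Groth.L19.Approx.fgOn_ker i U hU).pow

theorem lfp_pr1 (f : X ⟶ S) [LocallyOfFinitePresentation f] (n : ℕ) :
    LocallyOfFinitePresentation (PrinPart.pr1 f n) := by
  haveI : LocallyOfFinitePresentation (PrinPart.diagCl f) :=
    Groth.L23.lfp_of_comp_lft (PrinPart.diagCl f)
      ((pullback.diagonal f).coborderRange.ι ≫ pullback.fst f f) (by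
        rw [Scheme.Hom.liftCoborder_ι_assoc, pullback.diagonal_fst]; infer_instance)
  haveI := lfp_infNbhdι (PrinPart.diagCl f) n
  unfold PrinPart.pr1 PrinPart.nbhdι
  infer_instance

theorem isFP_PMod (f : X ⟶ S) [LocallyOfFinitePresentation f] (n : ℕ) {F : X.Modules} (hF : CohB1.IsFP F) :
    CohB1.IsFP (PrinPart.PMod f n F) := by
  haveI : Coh.IsQCoh F := by haveI := hF; infer_instance
  haveI := isFinite_pr1 f n
  haveI := lfp_pr1 f n
  haveI : Coh.IsQCoh ((Scheme.Modules.pullback (PrinPart.pr2 f n)).obj F) :=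
    Groth.L16.AffineBC.isQCoh_pullback _ F
  exact (Groth.L06.RelFPModules.isFP_iff_push (PrinPart.pr1 f n) _).mp (isFP_pullback _ hF)

end Groth.L07.PrinParts
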