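import Groth.Agent.L07.PrinParts.Sections
import Groth.Agent.L07.PrinParts.Mod
import Groth.Agent.L14.PPPushout
import Groth.Agent.L19.ConormalAffine
import Groth.Agent.L20.ModPullback
import Groth.Agent.L16.AffineBC.Pullback
import Mathlib.Algebra.Category.Ring.Constructions

/-!
Principal parts and base change (EGA IV 16.4.5).
-/

universe u

open CategoryTheory CategoryTheory.Limits AlgebraicGeometry TopologicalSpace Topology
open scoped TensorProduct

namespace Groth.L07.PrinParts

set_option linter.style.haveILetI false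
set_option maxSynthPendingDepth 3
set_option backward.isDefEq.respectTransparency.types false
set_option backward.isDefEq.respectTransparency false

attribute [local instance] PP16.mapAlgebra PP16.isScalarTower_mapAlgebra

/-- Sections of `P^n` over an affine open. -/
theorem exists_affine_sections {X S : Scheme.{u}} (f : X ⟶ S) (n : ℕ) {U : X.Opens} (hU : IsAffineOpen U)
    {V : S.Opens} (hV : IsAffineOpen V) (hUV : U ≤ f ⁻¹ᵁ V) :
    letI : Algebra Γ(S, V) Γ(X, U) := (f.appLE V U hUV).hom.toAlgebra
    ∃ e : Γ(PrinPart.P f n, U) ≃ₗ[Γ(X, U)] PP16.P n Γ(S, V) Γ(X, U),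
      ∀ b, e (PrinPart.dn f n U b) = PP16.dn n Γ(S, V) Γ(X, U) b := by
  letI : Algebra Γ(S, V) Γ(X, U) := (f.appLE V U hUV).hom.toAlgebra
  obtain ⟨κ, hκs, hκd⟩ := exists_sections_equiv f n U
  obtain ⟨-, Φ, hΦ, hΦ1, hΦ2⟩ := exists_affine_iso f hU hV hUV n
  let Ψ := RingEquiv.ofBijective Φ hΦ
  let e := κ.trans Ψ.symm.toAddEquiv
  refine ⟨{ e with map_smul' := fun a x => ?_ }, fun b => ?_⟩
  · show Ψ.symm (κ (a • x)) = a • Ψ.symm (κ x)
    apply Ψ.injective
    rw [Ψ.apply_symm_apply, hκs, Algebra.smul_def, map_mul, Ψ.apply_symm_apply]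
    exact congrArg (· * κ x) (hΦ1 a).symm
  · show Ψ.symm (κ (PrinPart.dn f n U b)) = _
    apply Ψ.injective
    rw [Ψ.apply_symm_apply, hκd]
    exact (hΦ2 b).symm

/-- A morphism of quasi-coherent modules bijective on an affine open is bijective on the stalks there. -/
theorem stalk_bijective_of_affine {X : Scheme.{u}} {M N : X.Modules} [Coh.IsQCoh M] [Coh.IsQCoh N]
    (φ : M ⟶ N) {U : X.Opens} (hU : IsAffineOpen U) (h : Function.Bijective (φ.app U)) {x : X} (hx : x ∈ U) :
    Function.Bijective ((Groth.L00.Stk.F X x).map φ) := by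
  let p := (hU.primeIdealOf ⟨x, hx⟩).asIdeal.primeCompl
  letI := Groth.L20.ModStalk.stalkModule M hx
  letI := Groth.L20.ModStalk.stalkModule N hx
  haveI := Groth.L20.ModStalk.isLocalizedModule_germ M hU hx
  haveI := Groth.L20.ModStalk.isLocalizedModule_germ N hU hx
  let Φ : M.presheaf.stalk x →ₗ[Γ(X, U)] N.presheaf.stalk x :=
    { toFun := fun m => (Groth.L00.Stk.F X x).map φ m
      map_add' := fun a b => map_add _ a b
      map_smul' := fun a m => ((Groth.L00.Stk.F X x).map φ).hom.map_smul _ m }
  let L : Γ(M, U) →ₗ[Γ(X, U)] Γ(N, U) :=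
    { toFun := fun m => φ.app U m
      map_add' := fun a b => map_add _ a b
      map_smul' := fun a m => φ.app_smul a m }
  have hΦ : IsLocalizedModule.map p (Groth.L20.ModStalk.germₗ M hx) (Groth.L20.ModStalk.germₗ N hx) L = Φ := by
    apply IsLocalizedModule.linearMap_ext p (Groth.L20.ModStalk.germₗ M hx) (Groth.L20.ModStalk.germₗ N hx)
    ext m
    simp only [LinearMap.comp_apply, IsLocalizedModule.map_apply]
    exact (Groth.L21.Mod.stalkF_map_germ φ U x hx m).symm
  show Function.Bijective Φ
  rw [← hΦ]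
  exact ⟨IsLocalizedModule.map_injective p _ _ L h.1, IsLocalizedModule.map_surjective p _ _ L h.2⟩

/-- A morphism of quasi-coherent modules surjective on an affine open is surjective on the stalks there. -/
theorem stalk_surjective_of_affine {X : Scheme.{u}} {M N : X.Modules} [Coh.IsQCoh M] [Coh.IsQCoh N]
    (φ : M ⟶ N) {U : X.Opens} (hU : IsAffineOpen U) (h : Function.Surjective (φ.app U)) {x : X} (hx : x ∈ U) :
    Function.Surjective ((Groth.L00.Stk.F X x).map φ) := by
  let p := (hU.primeIdealOf ⟨x, hx⟩).asIdeal.primeCompl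
  letI := Groth.L20.ModStalk.stalkModule M hx
  letI := Groth.L20.ModStalk.stalkModule N hx
  haveI := Groth.L20.ModStalk.isLocalizedModule_germ M hU hx
  haveI := Groth.L20.ModStalk.isLocalizedModule_germ N hU hx
  let Φ : M.presheaf.stalk x →ₗ[Γ(X, U)] N.presheaf.stalk x :=
    { toFun := fun m => (Groth.L00.Stk.F X x).map φ m
      map_add' := fun a b => map_add _ a b
      map_smul' := fun a m => ((Groth.L00.Stk.F X x).map φ).hom.map_smul _ m }
  let L : Γ(M, U) →ₗ[Γ(X, U)] Γ(N, U) :=
    { toFun := fun m => φ.app U m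
      map_add' := fun a b => map_add _ a b
      map_smul' := fun a m => φ.app_smul a m }
  have hΦ : IsLocalizedModule.map p (Groth.L20.ModStalk.germₗ M hx) (Groth.L20.ModStalk.germₗ N hx) L = Φ := by
    apply IsLocalizedModule.linearMap_ext p (Groth.L20.ModStalk.germₗ M hx) (Groth.L20.ModStalk.germₗ N hx)
    ext m
    simp only [LinearMap.comp_apply, IsLocalizedModule.map_apply]
    exact (Groth.L21.Mod.stalkF_map_germ φ U x hx m).symm
  show Function.Surjective Φ
  rw [← hΦ]
  exact IsLocalizedModule.map_surjective p _ _ L h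

/-- A morphism of quasi-coherent modules injective on an affine open is injective on the stalks there. -/
theorem stalk_injective_of_affine {X : Scheme.{u}} {M N : X.Modules} [Coh.IsQCoh M] [Coh.IsQCoh N]
    (φ : M ⟶ N) {U : X.Opens} (hU : IsAffineOpen U) (h : Function.Injective (φ.app U)) {x : X} (hx : x ∈ U) :
    Function.Injective ((Groth.L00.Stk.F X x).map φ) := by
  let p := (hU.primeIdealOf ⟨x, hx⟩).asIdeal.primeCompl
  letI := Groth.L20.ModStalk.stalkModule M hx
  letI := Groth.L20.ModStalk.stalkModule N hx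
  haveI := Groth.L20.ModStalk.isLocalizedModule_germ M hU hx
  haveI := Groth.L20.ModStalk.isLocalizedModule_germ N hU hx
  let Φ : M.presheaf.stalk x →ₗ[Γ(X, U)] N.presheaf.stalk x :=
    { toFun := fun m => (Groth.L00.Stk.F X x).map φ m
      map_add' := fun a b => map_add _ a b
      map_smul' := fun a m => ((Groth.L00.Stk.F X x).map φ).hom.map_smul _ m }
  let L : Γ(M, U) →ₗ[Γ(X, U)] Γ(N, U) :=
    { toFun := fun m => φ.app U m
      map_add' := fun a b => map_add _ a b
      map_smul' := fun a m => φ.app_smul a m }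
  have hΦ : IsLocalizedModule.map p (Groth.L20.ModStalk.germₗ M hx) (Groth.L20.ModStalk.germₗ N hx) L = Φ := by
    apply IsLocalizedModule.linearMap_ext p (Groth.L20.ModStalk.germₗ M hx) (Groth.L20.ModStalk.germₗ N hx)
    ext m
    simp only [LinearMap.comp_apply, IsLocalizedModule.map_apply]
    exact (Groth.L21.Mod.stalkF_map_germ φ U x hx m).symm
  show Function.Injective Φ
  rw [← hΦ]
  exact IsLocalizedModule.map_injective p _ _ L h

theorem isIso_pMap {X S X' S' : Scheme.{u}} (f : X ⟶ S) (g : S' ⟶ S) (u : X' ⟶ X) (f' : X' ⟶ S')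
    (hsq : IsPullback u f' f g) (n : ℕ)
    (φ : (Scheme.Modules.pullback u).obj (PrinPart.P f n) ⟶ PrinPart.P f' n)
    (hφ : PrinPart.IsPMap f f' u n φ) : IsIso φ := by
  haveI hQ : Coh.IsQCoh (PrinPart.P f n) := isQCoh_PMod f n (Groth.L19.Conormal.isQCoh_structureModule X)
  haveI hQ' : Coh.IsQCoh (PrinPart.P f' n) := isQCoh_PMod f' n (Groth.L19.Conormal.isQCoh_structureModule X')
  haveI : Coh.IsQCoh ((Scheme.Modules.pullback u).obj (PrinPart.P f n)) :=
    Groth.L16.AffineBC.isQCoh_pullback u _
  refine (Groth.L21.Mod.isIso_iff_stalk_bijective _).2 fun x => ?_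
  obtain ⟨W, V, W', U, eV, eW, eU, eU', hW, hV, hW', hU, hx, hpo⟩ :=
    Groth.L20.ModStalk.exists_affine_square hsq x
  refine stalk_bijective_of_affine φ hU ?_ hx
  let A := Γ(S, W)
  let B := Γ(X, V)
  let A' := Γ(S', W')
  let B' := Γ(X', U)
  letI : Algebra A B := (f.appLE W V eV).hom.toAlgebra
  letI : Algebra A A' := (g.appLE W W' eW).hom.toAlgebra
  letI : Algebra B B' := (u.appLE V U eU).hom.toAlgebra
  letI : Algebra A' B' := (f'.appLE W' U eU').hom.toAlgebra
  letI : Algebra A B' := ((f.appLE W V eV) ≫ (u.appLE V U eU)).hom.toAlgebra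
  haveI : IsScalarTower A B B' := IsScalarTower.of_algebraMap_eq fun _ => rfl
  haveI : IsScalarTower A A' B' := IsScalarTower.of_algebraMap_eq fun a =>
    ConcreteCategory.congr_hom hpo.w a
  haveI : Algebra.IsPushout A B A' B' := CommRingCat.isPushout_iff_isPushout.mp hpo
  haveI := Groth.L14.PP.isPushout_P n A B A' B'
  haveI : Algebra.IsPushout B B' (PP16.P n A B) (PP16.P n A' B') := Algebra.IsPushout.symm inferInstance
  have hbc : IsBaseChange B' (IsScalarTower.toAlgHom B (PP16.P n A B) (PP16.P n A' B')).toLinearMap :=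
    Algebra.IsPushout.out
  obtain ⟨e, he⟩ := exists_affine_sections f n hV hW eV
  obtain ⟨e', he'⟩ := exists_affine_sections f' n hU hW' eU'
  let Q := (Scheme.Modules.pullback u).obj (PrinPart.P f n)
  letI : Module B Γ(Q, U) := Module.compHom _ (u.appLE V U eU).hom
  haveI : IsScalarTower B B' Γ(Q, U) := IsScalarTower.of_algebraMap_smul fun _ _ => rfl
  letI : Module B Γ(PrinPart.P f' n, U) := Module.compHom _ (u.appLE V U eU).hom
  haveI : IsScalarTower B B' Γ(PrinPart.P f' n, U) := IsScalarTower.of_algebraMap_smul fun _ _ => rfl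
  have hpull : IsBaseChange B' (Groth.L16.AffineBC.pullRes u (PrinPart.P f n) eU) :=
    Groth.L16.AffineBC.isBaseChange_pull u _ hV hU eU
  let h : Γ(PrinPart.P f n, V) →ₗ[B] Γ(PrinPart.P f' n, U) :=
    (e'.symm.restrictScalars B).toLinearMap ∘ₗ
      (IsScalarTower.toAlgHom B (PP16.P n A B) (PP16.P n A' B')).toLinearMap ∘ₗ e.toLinearMap
  have hh : IsBaseChange B' h := by
    refine (IsBaseChange.iff_of_equiv_comm (R := B) (S := B') e.symm e'.symm ?_).mp hbc
    refine LinearMap.ext fun t => ?_
    show e'.symm _ = e'.symm _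
    exact congrArg (fun z => e'.symm (PP16.map n A B A' B' z)) (e.apply_symm_apply t)
  let L : Γ(Q, U) →ₗ[B'] Γ(PrinPart.P f' n, U) :=
    { toFun := fun m => φ.app U m
      map_add' := fun a b => map_add _ a b
      map_smul' := fun a m => φ.app_smul a m }
  have key : ∀ t : Γ(PrinPart.P f n, V), L (Groth.L16.AffineBC.pullRes u (PrinPart.P f n) eU t) = h t := by
    intro t
    suffices hs : (L.restrictScalars B ∘ₗ Groth.L16.AffineBC.pullRes u (PrinPart.P f n) eU) = h from
      LinearMap.congr_fun hs t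
    refine LinearMap.ext_on (s := Set.range (fun b => e.symm (PP16.dn n A B b))) ?_ ?_
    · have h1 := congrArg (Submodule.map e.symm.toLinearMap) (Groth.L14.PP.span_range_dn (A := A) (B := B) n)
      rw [Submodule.map_span, Submodule.map_top, LinearMap.range_eq_top.mpr e.symm.surjective,
        ← Set.range_comp] at h1
      exact h1
    · rintro _ ⟨b, rfl⟩
      have h2 : e.symm (PP16.dn n A B b) = PrinPart.dn f n V b := by
        rw [← he, e.symm_apply_apply]
      change φ.app U (Groth.L16.AffineBC.pullRes u (PrinPart.P f n) eU (e.symm (PP16.dn n A B b))) =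
        e'.symm (PP16.map n A B A' B' (e (e.symm (PP16.dn n A B b))))
      rw [e.apply_symm_apply, h2, PP16.map_dn, ← he', e'.symm_apply_apply]
      refine (ConcreteCategory.congr_hom (φ.mapPresheaf.naturality (homOfLE eU).op) _).trans ?_
      refine (congrArg ((PrinPart.P f' n).presheaf.map (homOfLE eU).op) (hφ V b)).trans ?_
      exact (PrinPart.dP_map f' n (Coh.structureModule X') eU _).symm
  have hL : L = hh.equiv.toLinearMap ∘ₗ hpull.equiv.symm.toLinearMap := by
    refine hpull.algHom_ext _ _ fun t => ?_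
    show _ = hh.equiv (hpull.equiv.symm _)
    rw [key, IsBaseChange.equiv_symm_apply, IsBaseChange.equiv_tmul, one_smul]
  show Function.Bijective L
  rw [hL]
  exact hh.equiv.bijective.comp hpull.equiv.symm.bijective

end Groth.L07.PrinParts
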