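import Groth.Prelude.Def_OmegaPn
import Groth.Agent.L17.ThickBasic
import Groth.Agent.L17.BC.PullSec
import Groth.Agent.L18.IdealModule
import Groth.Agent.L16.AffineBC.Pullback
import Groth.Agent.L16.Exist.AlgClosed
import Groth.Agent.L29.RelPC.FlatPull
import Groth.Agent.L07.PrinParts.BaseChange

/-!
Base change of the graded pieces of an immersion (EGA IV 16.2.2).
-/

universe u

open CategoryTheory CategoryTheory.Limits AlgebraicGeometry TopologicalSpace Opposite

namespace Groth.L07.PrinParts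

set_option linter.style.haveILetI false
set_option maxSynthPendingDepth 3
set_option backward.isDefEq.respectTransparency.types false
set_option backward.isDefEq.respectTransparency false

open Groth.L18.Frame (rs rs_rs rs_self pull)

variable {X X' Y Y' Z : Scheme.{u}}

/-- Maps out of a pullback are determined on pulled back sections. -/
theorem hom_ext_pull (g : X' ⟶ X) {M : X.Modules} {N : X'.Modules}
    (a b : (Scheme.Modules.pullback g).obj M ⟶ N)
    (h : ∀ (U : X.Opens) (s : Γ(M, U)), a.app (g ⁻¹ᵁ U) (pull g M U s) = b.app (g ⁻¹ᵁ U) (pull g M U s)) :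
    a = b := by
  refine ((Scheme.Modules.pullbackPushforwardAdjunction g).homEquiv M N).injective ?_
  rw [Adjunction.homEquiv_unit, Adjunction.homEquiv_unit]
  refine Scheme.Modules.hom_ext _ _ fun U => ?_
  ext s
  exact h U s

/-- Maps out of an iterated pullback are determined on pulled back sections. -/
theorem hom_ext_pull₂ (g : Z ⟶ X') (v : X' ⟶ X) {M : X.Modules} {N : Z.Modules}
    (a b : (Scheme.Modules.pullback g).obj ((Scheme.Modules.pullback v).obj M) ⟶ N)
    (h : ∀ (U : X.Opens) (s : Γ(M, U)),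
      a.app (g ⁻¹ᵁ (v ⁻¹ᵁ U)) (pull g _ (v ⁻¹ᵁ U) (pull v M U s)) =
        b.app (g ⁻¹ᵁ (v ⁻¹ᵁ U)) (pull g _ (v ⁻¹ᵁ U) (pull v M U s))) : a = b := by
  refine ((Scheme.Modules.pullbackPushforwardAdjunction g).homEquiv _ N).injective (hom_ext_pull v _ _ fun U s => ?_)
  rw [Adjunction.homEquiv_unit, Adjunction.homEquiv_unit]
  exact h U s

/-- The map `v^* I ⟶ J` of an ideal to its inverse image. -/
theorem exists_idealMap (v : X' ⟶ X) (I : X.IdealSheafData) (J : X'.IdealSheafData) (hJ : J = I.comap v) :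
    ∃ α : (Scheme.Modules.pullback v).obj (ClSub.idealMod I) ⟶ ClSub.idealMod J,
      (∀ (U : X.Opens) (s : Γ(ClSub.idealMod I, U)),
        OmegaSh.idealSect J (v ⁻¹ᵁ U) (α.app (v ⁻¹ᵁ U) (pull v _ U s)) =
          v.app U (OmegaSh.idealSect I U s)) ∧
      Epi α ∧ (Mono ((Scheme.Modules.pullback v).map (ClSub.idealModι I)) → IsIso α) := by
  subst hJ
  let J := I.comap v
  let β : (Scheme.Modules.pullback v).obj (ClSub.idealMod I) ⟶ Coh.structureModule X' :=
    (Scheme.Modules.pullback v).map (ClSub.idealModι I) ≫ (Groth.L29.LocFree.pullbackUnitIso v).hom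
  have hβ : ∀ (U : X.Opens) (s : Γ(ClSub.idealMod I, U)),
      β.app (v ⁻¹ᵁ U) (pull v _ U s) = v.app U (OmegaSh.idealSect I U s) := fun U s => by
    refine (congrArg ((Groth.L29.LocFree.pullbackUnitIso v).hom.app (v ⁻¹ᵁ U))
      (Groth.L17.BC.PullSec.map_pull v (ClSub.idealModι I) U s)).trans ?_
    exact congrArg (fun k : Coh.structureModule X ⟶ (Coh.push v).obj (Coh.structureModule X') =>
      k.app U ((ClSub.idealModι I).app U s)) (Groth.L16.Exist.Adic.unit_pullbackUnitIso v)
  have hker : ∀ (U : X.Opens) (a : Γ(X, U)), I.subschemeι.app U a = 0 →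
      J.subschemeι.app (v ⁻¹ᵁ U) (v.app U a) = 0 := fun U a ha => by
    have ht : J.subschemeι ≫ v = ((I.comapIso v).hom ≫ pullback.snd _ _) ≫ I.subschemeι := by
      rw [Category.assoc, ← pullback.condition, Scheme.IdealSheafData.comapIso_hom_fst_assoc]
    change (J.subschemeι ≫ v).app U a = 0
    rw [Scheme.Hom.congr_app ht U, CommRingCat.comp_apply, Scheme.Hom.comp_app, CommRingCat.comp_apply, ha,
      map_zero, map_zero]
  have hβ0 : β ≫ ClSub.toSubscheme J = 0 := hom_ext_pull v _ _ fun U s => by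
    refine Eq.trans (congrArg ((ClSub.toSubscheme J).app (v ⁻¹ᵁ U)) (hβ U s)) ?_
    exact hker U _ (((Groth.L18.IdealModule.exact_sections I U).2 _).mpr ⟨s, rfl⟩)
  let α : (Scheme.Modules.pullback v).obj (ClSub.idealMod I) ⟶ ClSub.idealMod J :=
    kernel.lift (ClSub.toSubscheme J) β hβ0
  have hαι : α ≫ ClSub.idealModι J = β := kernel.lift_ι _ _ _
  have hα : ∀ (U : X.Opens) (s : Γ(ClSub.idealMod I, U)),
      OmegaSh.idealSect J (v ⁻¹ᵁ U) (α.app (v ⁻¹ᵁ U) (pull v _ U s)) = v.app U (OmegaSh.idealSect I U s) :=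
    fun U s => (congrArg (fun k : _ ⟶ Coh.structureModule X' => k.app (v ⁻¹ᵁ U) (pull v _ U s)) hαι).trans (hβ U s)
  haveI : Coh.IsQCoh ((Scheme.Modules.pullback v).obj (ClSub.idealMod I)) :=
    Groth.L16.AffineBC.isQCoh_pullback v _
  have hepi : Epi α := by
    refine (Groth.L21.Mod.epi_iff_stalk_surjective α).2 fun x => ?_
    obtain ⟨_, ⟨V, hV, rfl⟩, hxV, -⟩ := X.isBasis_affineOpens.exists_subset_of_mem_open
      (Set.mem_univ (v x)) isOpen_univ
    obtain ⟨U, hU, hxU, hUV⟩ := exists_isAffineOpen_mem_and_subset (U := v ⁻¹ᵁ V) (x := x) hxV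
    refine stalk_surjective_of_affine α hU (fun m => ?_) hxU
    have hinj := (Groth.L18.IdealModule.exact_sections J U).1
    suffices H : ∀ a ∈ (I.ideal ⟨V, hV⟩).map (v.appLE V U hUV).hom, ∃ w : Γ((Scheme.Modules.pullback v).obj
        (ClSub.idealMod I), U), (show Γ(X', U) from (ClSub.idealModι J).app U (α.app U w)) = a by
      obtain ⟨w, hw⟩ := H (OmegaSh.idealSect J U m) (by
        rw [← Groth.L22.Ideals.comap_ideal v I ⟨V, hV⟩ ⟨U, hU⟩ hUV]
        exact (Groth.L18.IdealModule.mem_ideal_iff J hU _).mpr ⟨m, rfl⟩)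
      exact ⟨w, hinj hw⟩
    intro a ha
    induction ha using Submodule.span_induction with
    | mem a h =>
      obtain ⟨a', ha', rfl⟩ := h
      obtain ⟨s, rfl⟩ := (Groth.L18.IdealModule.mem_ideal_iff I hV a').mp ha'
      refine ⟨rs _ hUV (pull v _ V s), ?_⟩
      refine Eq.trans (congrArg ((ClSub.idealModι J).app U) (Groth.L17.BC.PullSec.app_rs α hUV _)) ?_
      refine Eq.trans (Groth.L17.BC.PullSec.app_rs (ClSub.idealModι J) hUV _) ?_
      exact congrArg (X'.presheaf.map (homOfLE hUV).op) (hα V s)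
    | zero => exact ⟨0, by rw [map_zero, map_zero]⟩
    | add a b _ _ ha hb =>
      obtain ⟨w, rfl⟩ := ha
      obtain ⟨w', rfl⟩ := hb
      exact ⟨w + w', by rw [map_add, map_add]⟩
    | smul r a _ ha =>
      obtain ⟨w, rfl⟩ := ha
      exact ⟨r • w, by rw [α.app_smul, (ClSub.idealModι J).app_smul]⟩
  refine ⟨α, hα, hepi, fun hm => ?_⟩
  haveI := hm
  haveI := hepi
  haveI : Mono β := mono_comp _ _
  haveI : Mono α := mono_of_mono_fac hαι
  haveI : Balanced X'.Modules := inferInstance
  exact isIso_of_mono_of_epi α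

/-- The canonical map of graded pieces is the pullback of the map of powers of the ideals. -/
theorem grMap_eq (f : Y ⟶ X) [IsClosedImmersion f] (v : X' ⟶ X) (u : Y' ⟶ Y) (f' : Y' ⟶ X')
    (hsq : IsPullback u f' f v) (n : ℕ)
    (φ : (Scheme.Modules.pullback u).obj (PrinPart.grMod f n) ⟶ PrinPart.grMod f' n)
    (hφ : PrinPart.IsGrMap f' f v u n φ) :
    Epi φ ∧ (Mono ((Scheme.Modules.pullback v).map (ClSub.idealModι (f.ker ^ n))) → IsIso φ) := by
  obtain ⟨α, hα, hepi, hiso⟩ := exists_idealMap v (f.ker ^ n) (f'.ker ^ n)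
    (by rw [Groth.L17.Thick.comap_pow, ← Groth.L17.Thick.ker_of_isPullback hsq.flip])
  let M := ClSub.idealMod (f.ker ^ n)
  let e : (Scheme.Modules.pullback u).obj ((Scheme.Modules.pullback f).obj M) ≅
      (Scheme.Modules.pullback f').obj ((Scheme.Modules.pullback v).obj M) :=
    (Scheme.Modules.pullbackComp u f).app M ≪≫ (Scheme.Modules.pullbackCongr hφ.1).app M ≪≫
      ((Scheme.Modules.pullbackComp f' v).app M).symm
  have key : φ = e.hom ≫ (Scheme.Modules.pullback f').map α := by
    refine hom_ext_pull₂ u f φ _ fun U s => ?_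
    have e₂ : u ⁻¹ᵁ (f ⁻¹ᵁ U) ≤ f' ⁻¹ᵁ (v ⁻¹ᵁ U) := by
      rw [← Scheme.Hom.comp_preimage, ← Scheme.Hom.comp_preimage, hφ.1]
    have hval := hφ.2 U s (α.app (v ⁻¹ᵁ U) (pull v M U s)) (hα U s) _ le_rfl e₂
    rw [show (homOfLE (le_refl (u ⁻¹ᵁ (f ⁻¹ᵁ U)))).op = 𝟙 _ from rfl, CategoryTheory.Functor.map_id] at hval
    refine hval.trans ?_
    show rs ((Scheme.Modules.pullback f').obj (ClSub.idealMod (f'.ker ^ n))) e₂
        (pull f' _ (v ⁻¹ᵁ U) (α.app (v ⁻¹ᵁ U) (pull v M U s))) =
      ((Scheme.Modules.pullback f').map α).app _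
        (((Scheme.Modules.pullbackComp f' v).inv.app M).app _
          (((Scheme.Modules.pullbackCongr hφ.1).hom.app M).app _
            (((Scheme.Modules.pullbackComp u f).hom.app M).app _ (pull u _ (f ⁻¹ᵁ U) (pull f M U s)))))
    rw [Groth.L17.BC.PullSec.comp_pull u f M U s,
      ← rs_self ((Scheme.Modules.pullback (u ≫ f)).obj M) le_rfl (pull (u ≫ f) M U s)]
    refine Eq.trans ?_ (congrArg (fun z => ((Scheme.Modules.pullback f').map α).app _
      (((Scheme.Modules.pullbackComp f' v).inv.app M).app _ z))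
      (Groth.L17.BC.PullSec.congr_pull hφ.1 M U s _ le_rfl e₂).symm)
    refine Eq.trans ?_ (congrArg (((Scheme.Modules.pullback f').map α).app _)
      (Groth.L17.BC.PullSec.comp_inv_pull_rs f' v M U s _ e₂).symm)
    refine Eq.trans ?_ (Groth.L17.BC.PullSec.app_rs ((Scheme.Modules.pullback f').map α) e₂ _).symm
    exact congrArg _ (Groth.L17.BC.PullSec.map_pull f' α _ _).symm
  rw [key]
  refine ⟨?_, fun hm => ?_⟩
  · haveI := hepi
    haveI : Epi ((Scheme.Modules.pullback f').map α) := by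
      haveI : PreservesColimitsOfSize.{0, 0} (Scheme.Modules.pullback f') :=
        (Scheme.Modules.pullbackPushforwardAdjunction f').leftAdjoint_preservesColimits
      infer_instance
    exact epi_comp _ _
  · haveI := hiso hm
    infer_instance

/-- Flat pullback keeps the inclusion of an ideal injective. -/
theorem mono_pullback_idealι (v : X' ⟶ X) [Flat v] (I : X.IdealSheafData) :
    Mono ((Scheme.Modules.pullback v).map (ClSub.idealModι I)) := by
  haveI := Groth.L29.RelPC.preservesFiniteLimits_pullback v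
  haveI : Mono (ClSub.idealModι I) := by unfold ClSub.idealModι; infer_instance
  infer_instance

end Groth.L07.PrinParts
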