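import Groth.Agent.L07.PrinParts.Push
import Groth.Prelude.Def_PP16

/-!
The neighbourhoods of the diagonal over affine opens (EGA IV 16.4.3, 16.3.6).
-/

universe u

open CategoryTheory CategoryTheory.Limits AlgebraicGeometry TopologicalSpace Topology
open scoped TensorProduct

namespace Groth.L07.PrinParts

set_option linter.style.haveILetI false
set_option maxSynthPendingDepth 3
set_option backward.isDefEq.respectTransparency.types false
set_option backward.isDefEq.respectTransparency false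

variable {X S : Scheme.{u}} (f : X ⟶ S)

/-- Sections of a morphism from an affine scheme through an affine open. -/
theorem appLE_specMap_fromSpec {Y : Scheme.{u}} {U : Y.Opens} (hU : IsAffineOpen U) {R : CommRingCat.{u}}
    (φ : Γ(Y, U) ⟶ R) (e) :
    (Spec.map φ ≫ hU.fromSpec).appLE U ⊤ e ≫ (Scheme.ΓSpecIso R).hom = φ := by
  have h1 : hU.fromSpec.appLE U ⊤ (by rw [hU.fromSpec_preimage_self]) =
      (Scheme.ΓSpecIso Γ(Y, U)).inv := by
    rw [Scheme.Hom.appLE, hU.fromSpec_app_self, Category.assoc, ← Functor.map_comp]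
    exact (congrArg ((Scheme.ΓSpecIso Γ(Y, U)).inv ≫ ·) ((Spec Γ(Y, U)).presheaf.map_id _)).trans
      (Category.comp_id _)
  have h2 := Scheme.Hom.appLE_comp_appLE (Spec.map φ) hU.fromSpec U ⊤ ⊤ (by rw [hU.fromSpec_preimage_self])
    le_top
  rw [← h2, h1, Category.assoc]
  have h3 : (Spec.map φ).appLE ⊤ ⊤ le_top = (Spec.map φ).appTop :=
    (Scheme.Hom.app_eq_appLE _).symm
  rw [h3, Scheme.ΓSpecIso_naturality, Iso.inv_hom_id_assoc]

/-- The neighbourhood of the diagonal over an affine open is the spectrum of the principal parts. -/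
theorem exists_affine_iso {U : X.Opens} (hU : IsAffineOpen U) {V : S.Opens} (hV : IsAffineOpen V)
    (hUV : U ≤ f ⁻¹ᵁ V) (n : ℕ) :
    letI : Algebra Γ(S, V) Γ(X, U) := (f.appLE V U hUV).hom.toAlgebra
    IsAffineOpen (PrinPart.pr1 f n ⁻¹ᵁ U) ∧
    ∃ Φ : PP16.P n Γ(S, V) Γ(X, U) →+* Γ(PrinPart.nbhd f n, PrinPart.pr1 f n ⁻¹ᵁ U),
      Function.Bijective Φ ∧
      (∀ b, Φ (Ideal.Quotient.mk _ (b ⊗ₜ[Γ(S, V)] (1 : Γ(X, U)))) = (PrinPart.pr1 f n).app U b) ∧
      (∀ b, Φ (Ideal.Quotient.mk _ ((1 : Γ(X, U)) ⊗ₜ[Γ(S, V)] b)) =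
        (PrinPart.pr2 f n).appLE U (PrinPart.pr1 f n ⁻¹ᵁ U) (PrinPart.preimage_pr1 f n U).le b) := by
  letI : Algebra Γ(S, V) Γ(X, U) := (f.appLE V U hUV).hom.toAlgebra
  let A := Γ(S, V)
  let B := Γ(X, U)
  let T := CommRingCat.of (B ⊗[A] B)
  let i1 : B ⟶ T := CommRingCat.ofHom (Algebra.TensorProduct.includeLeftRingHom : B →+* B ⊗[A] B)
  let i2 : B ⟶ T := CommRingCat.ofHom
    (Algebra.TensorProduct.includeRight (R := A) (A := B) (B := B)).toRingHom
  let μ : T ⟶ B := CommRingCat.ofHom (Algebra.TensorProduct.lmul' A (S := B)).toRingHom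
  have hsq : Spec.map (f.appLE V U hUV) ≫ hV.fromSpec = hU.fromSpec ≫ f :=
    hV.SpecMap_appLE_fromSpec f hU hUV
  let m := pullback.map (Spec.map (CommRingCat.ofHom (algebraMap A B)))
    (Spec.map (CommRingCat.ofHom (algebraMap A B))) f f hU.fromSpec hU.fromSpec hV.fromSpec hsq hsq
  let j : Spec T ⟶ pullback f f := (pullbackSpecIso A B B).inv ≫ m
  have hj1 : j ≫ pullback.fst f f = Spec.map i1 ≫ hU.fromSpec := by
    simp only [j, m, Category.assoc, pullback.lift_fst, pullback.map]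
    rw [pullbackSpecIso_inv_fst_assoc]
  have hj2 : j ≫ pullback.snd f f = Spec.map i2 ≫ hU.fromSpec := by
    simp only [j, m, Category.assoc, pullback.lift_snd, pullback.map]
    rw [pullbackSpecIso_inv_snd_assoc]
    rfl
  haveI : IsOpenImmersion j := inferInstance
  have hi1μ : i1 ≫ μ = 𝟙 B := by
    ext b; exact (Algebra.TensorProduct.lmul'_apply_tmul (R := A) b 1).trans (mul_one b)
  have hi2μ : i2 ≫ μ = 𝟙 B := by
    ext b; exact (Algebra.TensorProduct.lmul'_apply_tmul (R := A) 1 b).trans (one_mul b)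
  have hΔ : hU.fromSpec ≫ pullback.diagonal f = Spec.map μ ≫ j := by
    apply pullback.hom_ext
    · rw [Category.assoc, pullback.diagonal_fst, Category.assoc, hj1, ← Spec.map_comp_assoc, hi1μ,
        Spec.map_id, Category.id_comp, Category.comp_id]
    · rw [Category.assoc, pullback.diagonal_snd, Category.assoc, hj2, ← Spec.map_comp_assoc, hi2μ,
        Spec.map_id, Category.id_comp, Category.comp_id]
  have hμs : Function.Surjective μ.hom := fun b => ⟨b ⊗ₜ 1,
    (Algebra.TensorProduct.lmul'_apply_tmul (R := A) b 1).trans (mul_one b)⟩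
  have hΔj : ∀ x : X, pullback.diagonal f x ∈ Set.range j → x ∈ U := by
    rintro x ⟨w, hw⟩
    have e : x = (j ≫ pullback.fst f f) w := by
      rw [Scheme.Hom.comp_apply, hw, ← Scheme.Hom.comp_apply, pullback.diagonal_fst]; rfl
    rw [e, hj1, Scheme.Hom.comp_apply]
    exact (Set.ext_iff.mp hU.range_fromSpec _).mp ⟨_, rfl⟩
  have hpre : (j : Spec T → ↥(pullback f f)) ⁻¹' Set.range (pullback.diagonal f) = Set.range (Spec.map μ) := by
    ext w
    constructor
    · rintro ⟨x, hx⟩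
      obtain ⟨u, rfl⟩ : x ∈ Set.range hU.fromSpec := by
        rw [hU.range_fromSpec]; exact hΔj x ⟨w, hx.symm⟩
      refine ⟨u, j.isOpenEmbedding.injective ?_⟩
      rw [← Scheme.Hom.comp_apply, ← hΔ, Scheme.Hom.comp_apply]
      exact hx
    · rintro ⟨u, rfl⟩
      exact ⟨hU.fromSpec u, by rw [← Scheme.Hom.comp_apply, hΔ, Scheme.Hom.comp_apply]⟩
  haveI : IsClosedImmersion (Spec.map μ) := IsClosedImmersion.spec_of_surjective _ hμs
  let Co := (pullback.diagonal f).coborderRange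
  have hjC : Set.range j ⊆ Set.range Co.ι := by
    rw [Scheme.Opens.range_ι]
    rintro _ ⟨w, rfl⟩
    show j w ∈ coborder (Set.range (pullback.diagonal f))
    rw [coborder, Set.mem_compl_iff]
    rintro ⟨hcl, hnot⟩
    refine hnot ?_
    have hw : w ∈ closure ((j : Spec T → ↥(pullback f f)) ⁻¹' Set.range (pullback.diagonal f)) :=
      j.isOpenEmbedding.isOpenMap.preimage_closure_subset_closure_preimage hcl
    rw [hpre, (Spec.map μ).isClosedEmbedding.isClosed_range.closure_eq, ← hpre] at hw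
    exact hw
  let j' : Spec T ⟶ (Co : Scheme.{u}) := IsOpenImmersion.lift Co.ι j hjC
  have hj' : j' ≫ Co.ι = j := IsOpenImmersion.lift_fac _ _ _
  haveI : IsOpenImmersion j' := by
    haveI : IsOpenImmersion (j' ≫ Co.ι) := hj'.symm ▸ inferInstance
    exact IsOpenImmersion.of_comp j' Co.ι
  let W := j'.opensRange
  have hW : IsAffineOpen W := isAffineOpen_opensRange j'
  let dC := PrinPart.diagCl f
  have hdC : hU.fromSpec ≫ dC = Spec.map μ ≫ j' := by
    rw [← cancel_mono Co.ι, Category.assoc, Category.assoc, hj', Scheme.Hom.liftCoborder_ι, hΔ]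
  have hdCU : dC ⁻¹ᵁ W = U := by
    ext x
    refine ⟨fun ⟨w, hw⟩ => hΔj x ⟨w, ?_⟩, fun hx => ?_⟩
    · rw [← hj', Scheme.Hom.comp_apply, hw, ← Scheme.Hom.comp_apply]
      exact congrArg (fun k : X ⟶ pullback f f => k x) (Scheme.Hom.liftCoborder_ι _)
    · obtain ⟨u, rfl⟩ : x ∈ Set.range hU.fromSpec := by rw [hU.range_fromSpec]; exact hx
      refine ⟨Spec.map μ u, ?_⟩
      rw [← Scheme.Hom.comp_apply, ← hdC, Scheme.Hom.comp_apply]
  have htop : (⊤ : (Spec T).Opens) ≤ j' ⁻¹ᵁ W := fun w _ => ⟨w, rfl⟩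
  let c : Γ((Co : Scheme.{u}), W) ⟶ T := j'.appLE W ⊤ htop ≫ (Scheme.ΓSpecIso T).hom
  have hc : IsIso c := by
    haveI : IsIso (j'.appLE W ⊤ htop) := by
      haveI := j'.isIso_app W le_rfl
      rw [Scheme.Hom.appLE]
      haveI : IsIso (homOfLE htop) := ⟨homOfLE le_top, Subsingleton.elim _ _, Subsingleton.elim _ _⟩
      infer_instance
    infer_instance
  have hcbij : Function.Bijective c.hom := (ConcreteCategory.isIso_iff_bijective c).mp hc
  -- the kernel of the diagonal on the affine open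
  have hker : dC.ker.ideal ⟨W, hW⟩ = (KaehlerDifferential.ideal A B).comap c.hom := by
    rw [Scheme.Hom.ker_apply]
    have hge : (⊤ : (Spec B).Opens) ≤ hU.fromSpec ⁻¹ᵁ (dC ⁻¹ᵁ W) := by
      rw [hdCU, hU.fromSpec_preimage_self]
    let r := hU.fromSpec.appLE (dC ⁻¹ᵁ W) ⊤ hge ≫ (Scheme.ΓSpecIso B).hom
    have hr : dC.app W ≫ r = c ≫ μ := by
      have e1 := Scheme.Hom.appLE_comp_appLE hU.fromSpec dC W (dC ⁻¹ᵁ W) ⊤ le_rfl hge
      have e2 := Scheme.Hom.appLE_comp_appLE (Spec.map μ) j' W ⊤ ⊤ htop le_top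
      rw [← Scheme.Hom.app_eq_appLE] at e1
      rw [← Category.assoc, e1, _root_.OmegaSh.appLE_congr_hom hdC _ ((Spec.map μ).preimage_mono htop), ← e2]
      show (j'.appLE W ⊤ htop ≫ (Spec.map μ).appLE ⊤ ⊤ _) ≫ _ = _
      rw [show (Spec.map μ).appLE ⊤ ⊤ le_top = (Spec.map μ).appTop from (Scheme.Hom.app_eq_appLE _).symm,
        Category.assoc, Scheme.ΓSpecIso_naturality]
      rfl
    have hrinj : Function.Injective r.hom := by
      haveI : IsIso (hU.fromSpec.appLE (dC ⁻¹ᵁ W) ⊤ hge) := by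
        haveI := hU.fromSpec.isIso_app (dC ⁻¹ᵁ W) (by rw [hdCU, hU.opensRange_fromSpec])
        rw [Scheme.Hom.appLE]
        haveI : IsIso (homOfLE hge) := ⟨homOfLE le_top, Subsingleton.elim _ _, Subsingleton.elim _ _⟩
        infer_instance
      exact ((ConcreteCategory.isIso_iff_bijective r).mp inferInstance).injective
    ext a
    rw [RingHom.mem_ker, Ideal.mem_comap, KaehlerDifferential.ideal, RingHom.mem_ker,
      ← map_eq_zero_iff _ hrinj]
    exact Eq.congr (congrArg (fun k => k.hom a) hr) rfl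
  let ι := PrinPart.infNbhdι dC n
  have hιW : ι ⁻¹ᵁ W = PrinPart.pr1 f n ⁻¹ᵁ U := by
    ext p
    obtain ⟨x, rfl⟩ := PrinPart.toInfNbhd_surjective dC n p
    show ι (PrinPart.toNbhd f n x) ∈ W ↔ PrinPart.pr1 f n (PrinPart.toNbhd f n x) ∈ U
    rw [← Scheme.Hom.comp_apply, PrinPart.toInfNbhd_ι, ← Scheme.Hom.comp_apply, PrinPart.toNbhd_pr1]
    exact SetLike.ext_iff.mp hdCU x
  haveI : IsClosedImmersion ι := inferInstanceAs (IsClosedImmersion (dC.ker ^ (n + 1)).subschemeι)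
  refine ⟨hιW ▸ hW.preimage ι, ?_⟩
  let q : Γ((Co : Scheme.{u}), W) ⟶ Γ(PrinPart.nbhd f n, PrinPart.pr1 f n ⁻¹ᵁ U) :=
    ι.appLE W (PrinPart.pr1 f n ⁻¹ᵁ U) hιW.ge
  have hq : Function.Surjective q.hom ∧ RingHom.ker q.hom = dC.ker.ideal ⟨W, hW⟩ ^ (n + 1) := by
    haveI : IsIso (homOfLE hιW.ge) := ⟨homOfLE hιW.le, Subsingleton.elim _ _, Subsingleton.elim _ _⟩
    have hres : Function.Bijective ((PrinPart.nbhd f n).presheaf.map (homOfLE hιW.ge).op).hom :=
      (ConcreteCategory.isIso_iff_bijective _).mp inferInstance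
    have e : q.hom = ((PrinPart.nbhd f n).presheaf.map (homOfLE hιW.ge).op).hom.comp (ι.app W).hom := rfl
    refine ⟨?_, ?_⟩
    · rw [e, RingHom.coe_comp]
      exact hres.surjective.comp ((dC.ker ^ (n + 1)).subschemeι_app_surjective ⟨W, hW⟩)
    · rw [e, RingHom.ker_comp_of_injective _ hres.injective]
      refine ((dC.ker ^ (n + 1)).ker_subschemeι_app ⟨W, hW⟩).trans ?_
      rw [Scheme.IdealSheafData.ideal_pow, Pi.pow_apply]
  let ce := RingEquiv.ofBijective c.hom hcbij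
  let Φ0 : B ⊗[A] B →+* Γ(PrinPart.nbhd f n, PrinPart.pr1 f n ⁻¹ᵁ U) := q.hom.comp ce.symm.toRingHom
  have hker0 : RingHom.ker Φ0 = KaehlerDifferential.ideal A B ^ (n + 1) := by
    have hm : (dC.ker.ideal ⟨W, hW⟩).map (ce : Γ((Co : Scheme.{u}), W) →+* B ⊗[A] B) =
        KaehlerDifferential.ideal A B := by
      rw [hker]
      exact Ideal.map_comap_of_surjective _ ce.surjective _
    rw [← hm, ← Ideal.map_pow, ← hq.2, ← RingHom.comap_ker]
    exact (Ideal.map_comap_of_equiv ce).symm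
  refine ⟨Ideal.Quotient.lift _ Φ0 (fun t ht => RingHom.mem_ker.mp (hker0 ▸ ht)),
    ⟨RingHom.lift_injective_of_ker_le_ideal _ _ hker0.le,
      Ideal.Quotient.lift_surjective_of_surjective _ _ (hq.1.comp ce.symm.surjective)⟩, ?_, ?_⟩
  all_goals intro b; rw [Ideal.Quotient.lift_mk]
  · have hpr : j' ≫ (Co.ι ≫ pullback.fst f f) = Spec.map i1 ≫ hU.fromSpec := by rw [reassoc_of% hj', hj1]
    have hWU : W ≤ (Co.ι ≫ pullback.fst f f) ⁻¹ᵁ U := by
      rintro _ ⟨w, rfl⟩
      show (Co.ι ≫ pullback.fst f f) (j' w) ∈ U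
      rw [← Scheme.Hom.comp_apply, hpr, Scheme.Hom.comp_apply]
      exact (Set.ext_iff.mp hU.range_fromSpec _).mp ⟨_, rfl⟩
    have key : (Co.ι ≫ pullback.fst f f).appLE U W hWU ≫ c = i1 := by
      rw [← Category.assoc, Scheme.Hom.appLE_comp_appLE,
        _root_.OmegaSh.appLE_congr_hom hpr _ (hpr ▸ htop.trans (j'.preimage_mono hWU))]
      exact appLE_specMap_fromSpec hU i1 _
    show q.hom (ce.symm (i1.hom b)) = _
    rw [← key]
    show q.hom (ce.symm (ce ((Co.ι ≫ pullback.fst f f).appLE U W hWU b))) = _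
    rw [RingEquiv.symm_apply_apply, ← CommRingCat.comp_apply, Scheme.Hom.appLE_comp_appLE,
      Scheme.Hom.app_eq_appLE]
    exact ConcreteCategory.congr_hom (_root_.OmegaSh.appLE_congr_hom
      (show ι ≫ Co.ι ≫ pullback.fst f f = PrinPart.pr1 f n by
        simp only [PrinPart.pr1, PrinPart.nbhdι, Category.assoc]; rfl) _ _) b
  · have hpr : j' ≫ (Co.ι ≫ pullback.snd f f) = Spec.map i2 ≫ hU.fromSpec := by rw [reassoc_of% hj', hj2]
    have hWU : W ≤ (Co.ι ≫ pullback.snd f f) ⁻¹ᵁ U := by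
      rintro _ ⟨w, rfl⟩
      show (Co.ι ≫ pullback.snd f f) (j' w) ∈ U
      rw [← Scheme.Hom.comp_apply, hpr, Scheme.Hom.comp_apply]
      exact (Set.ext_iff.mp hU.range_fromSpec _).mp ⟨_, rfl⟩
    have key : (Co.ι ≫ pullback.snd f f).appLE U W hWU ≫ c = i2 := by
      rw [← Category.assoc, Scheme.Hom.appLE_comp_appLE,
        _root_.OmegaSh.appLE_congr_hom hpr _ (hpr ▸ htop.trans (j'.preimage_mono hWU))]
      exact appLE_specMap_fromSpec hU i2 _
    show q.hom (ce.symm (i2.hom b)) = _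
    rw [← key]
    show q.hom (ce.symm (ce ((Co.ι ≫ pullback.snd f f).appLE U W hWU b))) = _
    rw [RingEquiv.symm_apply_apply, ← CommRingCat.comp_apply, Scheme.Hom.appLE_comp_appLE]
    exact ConcreteCategory.congr_hom (_root_.OmegaSh.appLE_congr_hom
      (show ι ≫ Co.ι ≫ pullback.snd f f = PrinPart.pr2 f n by
        simp only [PrinPart.pr2, PrinPart.nbhdι, Category.assoc]; rfl) _ _) b

end Groth.L07.PrinParts
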