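import Groth.Agent.L07.PrinParts.Gen
import Groth.Agent.L14.PPFactor
import Groth.Agent.S2798
import Groth.Agent.S2799
import Groth.Prelude.Def_DiffOp

/-!
Differential operators on schemes (EGA IV 16.8).
-/

universe u

open CategoryTheory CategoryTheory.Limits AlgebraicGeometry TopologicalSpace Topology
open scoped TensorProduct

namespace Groth.L07.PrinParts

set_option linter.style.haveILetI false
set_option maxSynthPendingDepth 3
set_option backward.isDefEq.respectTransparency.types false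
set_option backward.isDefEq.respectTransparency false

variable {X S : Scheme.{u}} (f : X ⟶ S) (n : ℕ) {F G H : X.Modules}

theorem germ_ext (G : X.Modules) {U : X.Opens} (s t : Γ(G, U))
    (h : ∀ (y : X) (hy : y ∈ U), G.presheaf.germ U y hy s = G.presheaf.germ U y hy t) : s = t :=
  TopCat.Presheaf.section_ext (⟨G.presheaf, G.isSheaf⟩ : TopCat.Sheaf AddCommGrpCat.{u} X.toTopCat) U s t h

theorem exists_point (y : X) : ∃ x' : PrinPart.nbhd f n, PrinPart.pr2 f n x' = y :=
  ⟨PrinPart.toNbhd f n y, by rw [← Scheme.Hom.comp_apply, PrinPart.toNbhd_pr2]; rfl⟩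

/-- Two linear maps out of `P^n(F)` that agree on the image of `d^n` are equal. -/
theorem hom_ext_dP (u u' : PrinPart.PMod f n F ⟶ G)
    (h : ∀ (U : X.Opens) (t : Γ(F, U)), u.app U (PrinPart.dP f n F U t) = u'.app U (PrinPart.dP f n F U t)) :
    u = u' := by
  have hgen : ∀ (U : X.Opens), ∀ s ∈ gen f n F U, u.app U s = u'.app U s := fun U s hs => by
    induction hs using AddSubmonoid.closure_induction with
    | mem s hs =>
      obtain ⟨a, t, rfl⟩ := hs
      rw [u.app_smul, u'.app_smul, h]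
    | zero => rw [map_zero, map_zero]
    | add a b _ _ ha hb => rw [map_add, map_add, ha, hb]
  refine Scheme.Modules.hom_ext _ _ fun U => ?_
  ext s
  refine germ_ext G _ _ fun y hy => ?_
  obtain ⟨V, e, hyV, hs⟩ := local_gen f n F s y hy
  have hu := ConcreteCategory.congr_hom (u.mapPresheaf.naturality (homOfLE e).op) s
  have hu' := ConcreteCategory.congr_hom (u'.mapPresheaf.naturality (homOfLE e).op) s
  rw [← TopCat.Presheaf.germ_res_apply G.presheaf (homOfLE e) y hyV,
    ← TopCat.Presheaf.germ_res_apply G.presheaf (homOfLE e) y hyV (u'.app U s)]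
  exact congrArg (G.presheaf.germ V y hyV) (hu.symm.trans ((hgen V _ hs).trans hu'))

/-- The stalk of an additive operator. -/
noncomputable def stalkD (D : F.presheaf ⟶ G.presheaf) (z : X) :
    F.presheaf.stalk z →+ G.presheaf.stalk z :=
  ((TopCat.Presheaf.stalkFunctor AddCommGrpCat.{u} z).map D).hom

theorem stalkD_germ (D : F.presheaf ⟶ G.presheaf) {U : X.Opens} {z : X} (hz : z ∈ U) (t : Γ(F, U)) :
    stalkD D z (F.presheaf.germ U z hz t) = G.presheaf.germ U z hz (D.app (.op U) t) :=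
  TopCat.Presheaf.stalkFunctor_map_germ_apply U z hz D t

theorem stalkD_comp (D : F.presheaf ⟶ G.presheaf) (D' : G.presheaf ⟶ H.presheaf) (z : X)
    (m : F.presheaf.stalk z) : stalkD (D ≫ D') z m = stalkD D' z (stalkD D z m) :=
  ConcreteCategory.congr_hom ((TopCat.Presheaf.stalkFunctor AddCommGrpCat.{u} z).map_comp D D') m

/-- Linearity for the functions pulled back from the base. -/
def IsBaseLinear (D : F.presheaf ⟶ G.presheaf) : Prop :=
  ∀ (V : S.Opens) (s : Γ(S, V)) (U : X.Opens) (hU : U ≤ f ⁻¹ᵁ V) (t : Γ(F, U)),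
    D.app (.op U) (X.presheaf.map (homOfLE hU).op (f.app V s) • t) =
      X.presheaf.map (homOfLE hU).op (f.app V s) • D.app (.op U) t

/-- The alternating sum condition. -/
def IsAltZero (D : F.presheaf ⟶ G.presheaf) : Prop :=
  ∀ (U : X.Opens) (a : Fin (n + 1) → Γ(X, U)) (t : Γ(F, U)),
    (∑ K : Finset (Fin (n + 1)),
      ((-1 : ℤ) ^ K.card) • ((∏ i ∈ K, a i) • D.app (.op U) ((∏ i ∈ Kᶜ, a i) • t))) = 0

variable {f n}

theorem germ_altSum (D : F.presheaf ⟶ G.presheaf) {U : X.Opens} {z : X} (hz : z ∈ U)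
    (a : Fin (n + 1) → Γ(X, U)) (t : Γ(F, U)) :
    G.presheaf.germ U z hz (∑ K : Finset (Fin (n + 1)),
      ((-1 : ℤ) ^ K.card) • ((∏ i ∈ K, a i) • D.app (.op U) ((∏ i ∈ Kᶜ, a i) • t))) =
    ∑ K : Finset (Fin (n + 1)), ((-1 : ℤ) ^ K.card) • ((∏ i ∈ K, X.presheaf.germ U z hz (a i)) •
      stalkD D z ((∏ i ∈ Kᶜ, X.presheaf.germ U z hz (a i)) • F.presheaf.germ U z hz t)) := by
  rw [map_sum]
  refine Finset.sum_congr rfl fun K _ => ?_
  rw [map_zsmul, Groth.L20.ModStalk.germ_smul, map_prod, ← map_prod _ _ Kᶜ,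
    ← Groth.L20.ModStalk.germ_smul, stalkD_germ]

theorem exists_common_germ {z : X} {U₀ : X.Opens} (hz : z ∈ U₀) {ι : Type*} [Finite ι]
    (b : ι → X.presheaf.stalk z) (m : F.presheaf.stalk z) :
    ∃ (W : X.Opens) (_ : W ≤ U₀) (hW : z ∈ W) (a : ι → Γ(X, W)) (t : Γ(F, W)),
      (∀ i, X.presheaf.germ W z hW (a i) = b i) ∧ F.presheaf.germ W z hW t = m := by
  choose U hU a ha using fun i => X.presheaf.exists_germ_eq (b i)
  obtain ⟨U₁, h₁, t, rfl⟩ := TopCat.Presheaf.exists_germ_eq F.presheaf m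
  let W : X.Opens := ⟨(⋂ i, (U i : Set X)) ∩ ((U₁ : Set X) ∩ U₀),
    (isOpen_iInter_of_finite fun i => (U i).isOpen).inter (U₁.isOpen.inter U₀.isOpen)⟩
  refine ⟨W, fun y hy => hy.2.2, ⟨Set.mem_iInter.mpr hU, h₁, hz⟩,
    fun i => X.presheaf.map (homOfLE (fun y hy => Set.mem_iInter.mp hy.1 i : W ≤ U i)).op (a i),
    F.presheaf.map (homOfLE (fun y hy => hy.2.1 : W ≤ U₁)).op t, fun i => ?_, ?_⟩
  · rw [TopCat.Presheaf.germ_res_apply]; exact ha i
  · rw [TopCat.Presheaf.germ_res_apply]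

/-- The stalk of a differential operator, over an affine open of the base. -/
theorem stalkD_linear {D : F.presheaf ⟶ G.presheaf} (hlin : IsBaseLinear f D)
    {V : S.Opens} {U : X.Opens} (hUV : U ≤ f ⁻¹ᵁ V) {z : X} (hz : z ∈ U) (s : Γ(S, V))
    (m : F.presheaf.stalk z) :
    stalkD D z (X.presheaf.germ U z hz (f.appLE V U hUV s) • m) =
      X.presheaf.germ U z hz (f.appLE V U hUV s) • stalkD D z m := by
  obtain ⟨W, hWU, hW, -, t, -, rfl⟩ :=
    exists_common_germ (F := F) hz (ι := Fin 0) Fin.elim0 m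
  rw [show f.appLE V U hUV s = X.presheaf.map (homOfLE hUV).op (f.app V s) from rfl,
    TopCat.Presheaf.germ_res_apply,
    ← TopCat.Presheaf.germ_res_apply X.presheaf (homOfLE (hWU.trans hUV)) z hW,
    ← Groth.L20.ModStalk.germ_smul, stalkD_germ, stalkD_germ, ← Groth.L20.ModStalk.germ_smul,
    hlin V s W (hWU.trans hUV) t]

theorem isDiffOp_stalk {D : F.presheaf ⟶ G.presheaf} (hlin : IsBaseLinear f D) (halt : IsAltZero n D)
    {V : S.Opens} {U : X.Opens} (hUV : U ≤ f ⁻¹ᵁ V) {z : X} (hz : z ∈ U) :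
    letI := stalkAlg f hUV hz
    letI := Module.compHom (F.presheaf.stalk z) (algebraMap Γ(S, V) (X.presheaf.stalk z))
    letI := Module.compHom (G.presheaf.stalk z) (algebraMap Γ(S, V) (X.presheaf.stalk z))
    haveI : IsScalarTower Γ(S, V) (X.presheaf.stalk z) (F.presheaf.stalk z) := IsScalarTower.of_compHom _ _ _
    haveI : IsScalarTower Γ(S, V) (X.presheaf.stalk z) (G.presheaf.stalk z) := IsScalarTower.of_compHom _ _ _
    ∃ Dz : F.presheaf.stalk z →ₗ[Γ(S, V)] G.presheaf.stalk z, (∀ m, Dz m = stalkD D z m) ∧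
      Diff16.IsDiffOpLE Γ(S, V) (X.presheaf.stalk z) (F.presheaf.stalk z) (G.presheaf.stalk z) n Dz := by
  letI := stalkAlg f hUV hz
  letI := Module.compHom (F.presheaf.stalk z) (algebraMap Γ(S, V) (X.presheaf.stalk z))
  letI := Module.compHom (G.presheaf.stalk z) (algebraMap Γ(S, V) (X.presheaf.stalk z))
  haveI : IsScalarTower Γ(S, V) (X.presheaf.stalk z) (F.presheaf.stalk z) := IsScalarTower.of_compHom _ _ _
  haveI : IsScalarTower Γ(S, V) (X.presheaf.stalk z) (G.presheaf.stalk z) := IsScalarTower.of_compHom _ _ _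
  refine ⟨{ toFun := stalkD D z, map_add' := map_add _, map_smul' := stalkD_linear hlin hUV hz },
    fun m => rfl, (Groth.Agent.S2798.result _ _ _ _ n _).mpr fun b m => ?_⟩
  obtain ⟨W, -, hW, a, t, ha, rfl⟩ := exists_common_germ (F := F) hz b m
  obtain rfl : (fun i => X.presheaf.germ W z hW (a i)) = b := funext ha
  exact (germ_altSum D hW a t).symm.trans ((congrArg _ (halt W a t)).trans (map_zero _))

variable (f n)

/-- An operator satisfying the conditions induces maps on the stalks of `P^n(F)`. -/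
theorem exists_stalk_lift {D : F.presheaf ⟶ G.presheaf} (hlin : IsBaseLinear f D) (halt : IsAltZero n D)
    (x' : PrinPart.nbhd f n) :
    ∃ lam : (Q f n F).presheaf.stalk x' →+ G.presheaf.stalk (PrinPart.pr2 f n x'),
      ∀ (U : X.Opens) (hz : PrinPart.pr2 f n x' ∈ U) (hx : x' ∈ PrinPart.pr1 f n ⁻¹ᵁ U) (a : Γ(X, U))
        (t : Γ(F, U)),
        lam (germP f n F hx (a • PrinPart.dP f n F U t)) =
          G.presheaf.germ U _ hz (a • D.app (.op U) t) := by
  let z := PrinPart.pr2 f n x'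
  obtain ⟨_, ⟨V, hV, rfl⟩, hfV, -⟩ := S.isBasis_affineOpens.exists_subset_of_mem_open
    (Set.mem_univ (f z)) isOpen_univ
  obtain ⟨U, hU, hz, hUV⟩ := exists_isAffineOpen_mem_and_subset (U := f ⁻¹ᵁ V) (x := z) hfV
  obtain ⟨θ, hθ, hθ1, hθ2⟩ := exists_stalk_equiv f n x' hU hV hUV hz
  let R := X.presheaf.stalk z
  let O := (PrinPart.nbhd f n).presheaf.stalk x'
  letI := stalkAlg f hUV hz
  letI := Module.compHom (F.presheaf.stalk z) (algebraMap Γ(S, V) R)
  letI := Module.compHom (G.presheaf.stalk z) (algebraMap Γ(S, V) R)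
  haveI : IsScalarTower Γ(S, V) R (F.presheaf.stalk z) := IsScalarTower.of_compHom _ _ _
  haveI : IsScalarTower Γ(S, V) R (G.presheaf.stalk z) := IsScalarTower.of_compHom _ _ _
  obtain ⟨Dz, hDz, hdiff⟩ := isDiffOp_stalk hlin halt hUV hz
  obtain ⟨u, hu1, hu2⟩ := ((Groth.L14.PP.factor_iff Dz).mp hdiff).exists
  let e : PP16.P n Γ(S, V) R ≃+* O := RingEquiv.ofBijective θ hθ
  letI := (Groth.L00.PullStalk.φ (PrinPart.pr2 f n) x').toAlgebra
  let eS : O →+ PP16.Pr n Γ(S, V) R := e.symm.toAddEquiv.toAddMonoidHom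
  let β : O →+ F.presheaf.stalk z →+ G.presheaf.stalk z :=
    AddMonoidHom.mk' (fun o => u.comp
      (TensorProduct.mk R (PP16.Pr n Γ(S, V) R) (F.presheaf.stalk z) (eS o)).toAddMonoidHom)
      fun o o' => by
        ext m
        exact (congrArg u ((congrArg (· ⊗ₜ[R] m) (map_add eS o o')).trans
          (TensorProduct.add_tmul (R := R) _ _ m))).trans (map_add u _ _)
  have he2 : ∀ (c : R) (o : O), e.symm (c • o) = PP16.dn n Γ(S, V) R c * e.symm o := fun c o => by
    apply e.injective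
    rw [e.apply_symm_apply, map_mul, e.apply_symm_apply, Algebra.smul_def]
    exact congrArg (· * o) (hθ2 c).symm
  have hbal : ∀ (c : R) (o : O) (m : F.presheaf.stalk z), β (c • o) m = β o (c • m) := fun c o m => by
    refine congrArg u ?_
    have h : eS (c • o) = c • eS o := (he2 c o).trans rfl
    exact (congrArg (· ⊗ₜ[R] m) h).trans (TensorProduct.smul_tmul c (eS o) m)
  refine ⟨(TensorProduct.liftAddHom β hbal).comp (toTensor f n F x'), fun U' hz' hx a t => ?_⟩
  refine (congrArg (TensorProduct.liftAddHom β hbal) (toTensor_smul_dP f n F hz' hx a t)).trans ?_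
  have he1 : e.symm (p1 f n x' (X.presheaf.germ U' _ hz' a)) =
      algebraMap R (PP16.P n Γ(S, V) R) (X.presheaf.germ U' _ hz' a) := by
    apply e.injective
    rw [e.apply_symm_apply]
    exact (hθ1 _).symm
  change u ((show PP16.Pr n Γ(S, V) R from e.symm (p1 f n x' (X.presheaf.germ U' _ hz' a))) ⊗ₜ[R]
    F.presheaf.germ U' _ hz' t) = _
  rw [he1, Groth.L20.ModStalk.germ_smul, ← stalkD_germ, ← hDz, ← hu2, ← hu1]
  refine congrArg u ?_
  exact congrArg (· ⊗ₜ[R] F.presheaf.germ U' _ hz' t) (mul_one _).symm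

/-- Existence of the linear map out of `P^n(F)`. -/
theorem exists_factor {D : F.presheaf ⟶ G.presheaf} (hlin : IsBaseLinear f D) (halt : IsAltZero n D) :
    PrinPart.IsDiffOpLE f F G n D := by
  choose lam hlam using exists_stalk_lift f n hlin halt
  let Rel : ∀ U : X.Opens, Γ(PrinPart.PMod f n F, U) → Γ(G, U) → Prop := fun U s g =>
    ∀ (x' : PrinPart.nbhd f n) (hz : PrinPart.pr2 f n x' ∈ U) (hx : x' ∈ PrinPart.pr1 f n ⁻¹ᵁ U),
      lam x' (germP f n F hx s) = G.presheaf.germ U _ hz g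
  have hmem : ∀ {U : X.Opens} {x' : PrinPart.nbhd f n}, PrinPart.pr2 f n x' ∈ U →
      x' ∈ PrinPart.pr1 f n ⁻¹ᵁ U := fun {U x'} h => (PrinPart.preimage_pr1 f n U).symm.le h
  have huniq : ∀ {U s g g'}, Rel U s g → Rel U s g' → g = g' := fun {U s g g'} h h' =>
    germ_ext G _ _ fun y hy => by
      obtain ⟨x', rfl⟩ := exists_point f n y
      rw [← h x' hy (hmem hy), ← h' x' hy (hmem hy)]
  have hres : ∀ {U V : X.Opens} (e : V ≤ U) {s g}, Rel U s g →
      Rel V ((PrinPart.PMod f n F).presheaf.map (homOfLE e).op s) (G.presheaf.map (homOfLE e).op g) :=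
    fun {U V} e {s g} h x' hz hx => by
      rw [germP_map, TopCat.Presheaf.germ_res_apply]; exact h x' (e hz) _
  have hadd : ∀ {U s s' g g'}, Rel U s g → Rel U s' g' → Rel U (s + s') (g + g') :=
    fun {U s s' g g'} h h' x' hz hx => by
      rw [map_add, map_add, map_add, h x' hz hx, h' x' hz hx]
  have hgen : ∀ (U : X.Opens), ∀ s ∈ gen f n F U, ∃ g, Rel U s g := fun U s hs => by
    induction hs using AddSubmonoid.closure_induction with
    | mem s hs =>
      obtain ⟨a, t, rfl⟩ := hs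
      exact ⟨_, fun x' hz hx => hlam x' U hz hx a t⟩
    | zero => exact ⟨0, fun x' hz hx => by rw [map_zero, map_zero, map_zero]⟩
    | add a b _ _ ha hb =>
      obtain ⟨g, hg⟩ := ha
      obtain ⟨g', hg'⟩ := hb
      exact ⟨g + g', hadd hg hg'⟩
  have hex : ∀ (U : X.Opens) (s : Γ(PrinPart.PMod f n F, U)), ∃ g, Rel U s g := fun U s => by
    choose V e hyV hs using fun y : U => local_gen f n F s y y.2
    choose g hg using fun y => hgen _ _ (hs y)
    obtain ⟨g₀, hg₀, -⟩ := TopCat.Sheaf.existsUnique_gluing'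
      (⟨G.presheaf, G.isSheaf⟩ : TopCat.Sheaf AddCommGrpCat.{u} X.toTopCat) V U (fun y => homOfLE (e y))
      (fun y hy => Opens.mem_iSup.mpr ⟨⟨y, hy⟩, hyV _⟩) g fun i j => by
        refine germ_ext G _ _ fun y hy => ?_
        obtain ⟨x', rfl⟩ := exists_point f n y
        rw [TopCat.Presheaf.germ_res_apply, TopCat.Presheaf.germ_res_apply,
          ← hg i x' hy.1 (hmem hy.1), ← hg j x' hy.2 (hmem hy.2), germP_map, germP_map]
    refine ⟨g₀, fun x' hz hx => ?_⟩
    have h := hg ⟨_, hz⟩ x' (hyV _) (hmem (hyV _))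
    rw [germP_map, ← hg₀ ⟨_, hz⟩, TopCat.Presheaf.germ_res_apply] at h
    exact h
  choose g hg using hex
  let u : PrinPart.PMod f n F ⟶ G := ⟨PresheafOfModules.homMk
    { app := fun U => AddCommGrpCat.ofHom (AddMonoidHom.mk' (g U.unop) fun s s' =>
        huniq (hg _ _) (hadd (hg _ s) (hg _ s')))
      naturality := fun U V i => by
        ext s
        exact huniq (hg _ _) (hres i.unop.le (hg _ s)) }
    fun U r s => huniq (hg _ _) fun x' hz hx => by
      have hsm : ∀ (c : X.presheaf.stalk (PrinPart.pr2 f n x')) (ζ : (Q f n F).presheaf.stalk x'),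
          lam x' (p1 f n x' c • ζ) = c • lam x' ζ := by
        intro c ζ
        obtain ⟨U₁, h₁, s₁, hs₁, rfl⟩ := exists_gen f n F x' ζ
        have h₁' : PrinPart.pr2 f n x' ∈ U₁ := (PrinPart.preimage_pr1 f n U₁).le h₁
        obtain ⟨U₂, h₂, a, rfl⟩ := X.presheaf.exists_germ_eq c
        induction hs₁ using AddSubmonoid.closure_induction with
        | zero => simp only [map_zero, smul_zero]
        | add a b _ _ ha hb => rw [map_add, smul_add, map_add, map_add, smul_add, ha, hb]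
        | mem s hs =>
          obtain ⟨b, t, rfl⟩ := hs
          have hW : PrinPart.pr2 f n x' ∈ U₁ ⊓ U₂ := ⟨h₁', h₂⟩
          rw [← germP_map f n F inf_le_left (hmem hW), PrinPart.PMod f n F |>.map_smul,
            ← PrinPart.dP_map,
            ← TopCat.Presheaf.germ_res_apply X.presheaf (homOfLE inf_le_right) _ hW a,
            ← germP_smul f n F hW (hmem hW), smul_smul, hlam x' _ hW, hlam x' _ hW, mul_smul,
            Groth.L20.ModStalk.germ_smul]
      refine (congrArg (lam x') (germP_smul f n F hz hx r s)).trans ?_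
      rw [hsm, hg U.unop s x' hz hx]
      exact (Groth.L20.ModStalk.germ_smul G hz r _).symm⟩
  refine ⟨u, fun U t => huniq (s := PrinPart.dP f n F U t) ?_ (hg U _)⟩
  intro x' hz hx
  have h := hlam x' U hz hx 1 t
  rwa [one_smul, one_smul] at h

variable {f n}

theorem appLE_pr2_base {V : S.Opens} {U : X.Opens} (hU : U ≤ f ⁻¹ᵁ V) (s : Γ(S, V)) :
    (PrinPart.pr2 f n).appLE U (PrinPart.pr1 f n ⁻¹ᵁ U) (PrinPart.preimage_pr1 f n U).le
        (f.appLE V U hU s) = (PrinPart.pr1 f n).app U (f.appLE V U hU s) := by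
  rw [Scheme.Hom.app_eq_appLE, ← CommRingCat.comp_apply, ← CommRingCat.comp_apply,
    Scheme.Hom.appLE_comp_appLE, Scheme.Hom.appLE_comp_appLE]
  simp only [PrinPart.pr1_comp]

/-- `d^n` is linear along the second projection. -/
theorem dP_smul (U : X.Opens) (b : Γ(X, U)) (t : Γ(F, U)) :
    (show Γ(Q f n F, PrinPart.pr1 f n ⁻¹ᵁ U) from PrinPart.dP f n F U (b • t)) =
      (PrinPart.pr2 f n).appLE U (PrinPart.pr1 f n ⁻¹ᵁ U) (PrinPart.preimage_pr1 f n U).le b •
        (show Γ(Q f n F, PrinPart.pr1 f n ⁻¹ᵁ U) from PrinPart.dP f n F U t) := by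
  rw [PrinPart.dP_apply, PrinPart.dP_apply]
  have h : OmegaSh.pullSect (PrinPart.pr2 f n) F U (b • t) =
      (PrinPart.pr2 f n).app U b • OmegaSh.pullSect (PrinPart.pr2 f n) F U t :=
    ((Scheme.Modules.pullbackPushforwardAdjunction (PrinPart.pr2 f n)).unit.app F).app_smul b t
  exact (congrArg _ h).trans ((Q f n F).map_smul _ _ _)

theorem baseLinear_of_isDiffOp {D : F.presheaf ⟶ G.presheaf} (hD : PrinPart.IsDiffOpLE f F G n D) :
    IsBaseLinear f D := by
  obtain ⟨u, hu⟩ := hD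
  intro V s U hU t
  rw [hu, hu, ← u.app_smul]
  refine congrArg _ ?_
  exact (dP_smul U _ t).trans (congrArg (· • (show Γ(Q f n F, PrinPart.pr1 f n ⁻¹ᵁ U) from
    PrinPart.dP f n F U t)) (appLE_pr2_base hU s))

theorem prod_sub_eq_zero {U : X.Opens} (a : Fin (n + 1) → Γ(X, U)) :
    ∏ i, ((PrinPart.pr2 f n).appLE U (PrinPart.pr1 f n ⁻¹ᵁ U) (PrinPart.preimage_pr1 f n U).le (a i) -
      (PrinPart.pr1 f n).app U (a i)) = 0 := by
  refine TopCat.Presheaf.section_ext (PrinPart.nbhd f n).sheaf _ _ _ fun x' hx => ?_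
  change (PrinPart.nbhd f n).presheaf.germ _ x' hx _ = (PrinPart.nbhd f n).presheaf.germ _ x' hx _
  rw [map_zero, map_prod]
  have hz : PrinPart.pr2 f n x' ∈ U := (PrinPart.preimage_pr1 f n U).le hx
  obtain ⟨_, ⟨V, hV, rfl⟩, hfV, -⟩ := S.isBasis_affineOpens.exists_subset_of_mem_open
    (Set.mem_univ (f (PrinPart.pr2 f n x'))) isOpen_univ
  obtain ⟨U', hU', hz', hUV⟩ := exists_isAffineOpen_mem_and_subset
    (U := f ⁻¹ᵁ V) (x := PrinPart.pr2 f n x') hfV
  obtain ⟨θ, -, hθ1, hθ2⟩ := exists_stalk_equiv f n x' hU' hV hUV hz'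
  letI := stalkAlg f hUV hz'
  let c := fun i => X.presheaf.germ U _ hz (a i)
  let d : Fin (n + 1) → X.presheaf.stalk (PrinPart.pr2 f n x') ⊗[Γ(S, V)]
      X.presheaf.stalk (PrinPart.pr2 f n x') := fun i => 1 ⊗ₜ c i - c i ⊗ₜ 1
  have hprod : (Ideal.Quotient.mk _ (∏ i, d i) :
      PP16.P n Γ(S, V) (X.presheaf.stalk (PrinPart.pr2 f n x'))) = 0 := by
    rw [Ideal.Quotient.eq_zero_iff_mem]
    have h := Ideal.prod_mem_prod (s := Finset.univ) (x := d)
      (I := fun _ => KaehlerDifferential.ideal Γ(S, V) (X.presheaf.stalk (PrinPart.pr2 f n x')))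
      fun i _ => KaehlerDifferential.one_smul_sub_smul_one_mem_ideal _ (c i)
    rwa [Finset.prod_const, Finset.card_univ, Fintype.card_fin] at h
  have h0 := (congrArg θ hprod).trans (map_zero θ)
  rw [map_prod, map_prod] at h0
  refine Eq.trans (Finset.prod_congr rfl fun i _ => ?_) h0
  rw [map_sub, map_sub, map_sub, hθ1, hθ2, p2_germ f n x' hz hx, p1_germ f n x' hz hx]

theorem altZero_of_isDiffOp {D : F.presheaf ⟶ G.presheaf} (hD : PrinPart.IsDiffOpLE f F G n D) :
    IsAltZero n D := by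
  obtain ⟨u, hu⟩ := hD
  intro U a t
  let O := Γ(PrinPart.nbhd f n, PrinPart.pr1 f n ⁻¹ᵁ U)
  let q1 : Γ(X, U) →+* O := ((PrinPart.pr1 f n).app U).hom
  let q2 : Γ(X, U) →+* O :=
    ((PrinPart.pr2 f n).appLE U (PrinPart.pr1 f n ⁻¹ᵁ U) (PrinPart.preimage_pr1 f n U).le).hom
  let ζ : Γ(Q f n F, PrinPart.pr1 f n ⁻¹ᵁ U) := PrinPart.dP f n F U t
  have h0 : (∑ K : Finset (Fin (n + 1)), ((-1 : ℤ) ^ K.card) • (q1 (∏ i ∈ K, a i) * q2 (∏ i ∈ Kᶜ, a i))) = 0 := by
    rw [← prod_sub_eq_zero (f := f) (n := n) a]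
    refine Eq.trans ?_ (Eq.trans (Fintype.prod_add (fun i => -q1 (a i)) fun i => q2 (a i)).symm
      (Finset.prod_congr rfl fun i _ => neg_add_eq_sub _ _))
    refine Finset.sum_congr rfl fun K _ => ?_
    rw [Finset.prod_neg, map_prod, map_prod, zsmul_eq_mul, mul_assoc]
    simp
  have hterm : ∀ K : Finset (Fin (n + 1)),
      (∏ i ∈ K, a i) • D.app (.op U) ((∏ i ∈ Kᶜ, a i) • t) =
        u.app U (show Γ(Q f n F, PrinPart.pr1 f n ⁻¹ᵁ U) from
          (q1 (∏ i ∈ K, a i) * q2 (∏ i ∈ Kᶜ, a i)) • ζ) := fun K => by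
    rw [hu, ← u.app_smul]
    refine congrArg _ ?_
    exact (congrArg (q1 (∏ i ∈ K, a i) • ·) (dP_smul U (∏ i ∈ Kᶜ, a i) t)).trans (smul_smul _ _ _)
  simp only [hterm]
  rw [← map_zero (u.app U).hom]
  refine Eq.trans ?_ (congrArg (fun o : O => u.app U (show Γ(Q f n F, PrinPart.pr1 f n ⁻¹ᵁ U) from o • ζ))
    h0 |>.trans (congrArg (u.app U) (zero_smul O ζ)))
  simp only [Finset.sum_smul, smul_assoc, map_sum, map_zsmul]

theorem isDiffOp_iff {D : F.presheaf ⟶ G.presheaf} (hlin : IsBaseLinear f D) :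
    PrinPart.IsDiffOpLE f F G n D ↔ IsAltZero n D :=
  ⟨altZero_of_isDiffOp, exists_factor f n hlin⟩

theorem isDiffOp_comp {n' : ℕ} {D : F.presheaf ⟶ G.presheaf} {D' : G.presheaf ⟶ H.presheaf}
    (hD : PrinPart.IsDiffOpLE f F G n D) (hD' : PrinPart.IsDiffOpLE f G H n' D') :
    PrinPart.IsDiffOpLE f F H (n + n') (D ≫ D') := by
  have hl := baseLinear_of_isDiffOp hD
  have hl' := baseLinear_of_isDiffOp hD'
  refine exists_factor f _ (fun V s U hU t => ?_) fun U a t => ?_
  · exact (congrArg (D'.app (.op U)) (hl V s U hU t)).trans (hl' V s U hU _)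
  · refine germ_ext H _ _ fun z hz => ?_
    obtain ⟨_, ⟨V, hV, rfl⟩, hfV, -⟩ := S.isBasis_affineOpens.exists_subset_of_mem_open
      (Set.mem_univ (f z)) isOpen_univ
    obtain ⟨U', -, hz', hUV⟩ := exists_isAffineOpen_mem_and_subset (U := f ⁻¹ᵁ V) (x := z) hfV
    letI := stalkAlg f hUV hz'
    letI := Module.compHom (F.presheaf.stalk z) (algebraMap Γ(S, V) (X.presheaf.stalk z))
    letI := Module.compHom (G.presheaf.stalk z) (algebraMap Γ(S, V) (X.presheaf.stalk z))
    letI := Module.compHom (H.presheaf.stalk z) (algebraMap Γ(S, V) (X.presheaf.stalk z))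
    haveI : IsScalarTower Γ(S, V) (X.presheaf.stalk z) (F.presheaf.stalk z) := IsScalarTower.of_compHom _ _ _
    haveI : IsScalarTower Γ(S, V) (X.presheaf.stalk z) (G.presheaf.stalk z) := IsScalarTower.of_compHom _ _ _
    haveI : IsScalarTower Γ(S, V) (X.presheaf.stalk z) (H.presheaf.stalk z) := IsScalarTower.of_compHom _ _ _
    obtain ⟨E, hE, hEd⟩ := isDiffOp_stalk hl (altZero_of_isDiffOp hD) hUV hz'
    obtain ⟨E', hE', hEd'⟩ := isDiffOp_stalk hl' (altZero_of_isDiffOp hD') hUV hz'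
    have h := (Groth.Agent.S2798.result _ _ _ _ (n + n') _).mp
      (Groth.Agent.S2799.result _ _ _ _ _ n n' E E' hEd hEd')
      (fun i => X.presheaf.germ U z hz (a i)) (F.presheaf.germ U z hz t)
    rw [germ_altSum, map_zero]
    refine Eq.trans (Finset.sum_congr rfl fun K _ => ?_) h
    rw [stalkD_comp, ← hE, ← hE']
    rfl

end Groth.L07.PrinParts
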