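import Groth.Prelude.Def_OmegaPn
import Groth.Agent.L15.KFlatSite.ToSheafColim
import Groth.Agent.L17.ToAbRpush
import Groth.Agent.L00.SheafHom
import Mathlib.AlgebraicGeometry.ZariskisMainTheorem
import Mathlib.Topology.Sheaves.Functors

/-!
Direct image along a homeomorphism, and the projections of the neighbourhoods of the diagonal
(EGA IV 16.7).
-/

universe u

open CategoryTheory CategoryTheory.Limits AlgebraicGeometry TopologicalSpace Topology

namespace Groth.L07.PrinParts

set_option linter.style.haveILetI false
set_option backward.isDefEq.respectTransparency.types false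
set_option backward.isDefEq.respectTransparency false

/-- Direct image of sheaves along an isomorphism is an equivalence. -/
theorem isEquivalence_pushforward {C : Type*} [Category C] {X Y : TopCat.{u}} (f : X ⟶ Y) [IsIso f] :
    (TopCat.Sheaf.pushforward C f).IsEquivalence :=
  (CategoryTheory.Equivalence.mk (TopCat.Sheaf.pushforward C f) (TopCat.Sheaf.pushforward C (inv f))
    (eqToIso (show 𝟭 _ = TopCat.Sheaf.pushforward C (f ≫ inv f) by rw [IsIso.hom_inv_id]; rfl))
    (eqToIso (show TopCat.Sheaf.pushforward C (inv f ≫ f) = 𝟭 _ by rw [IsIso.inv_hom_id]; rfl))).isEquivalence_functor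

/-- Direct image along a morphism that is a homeomorphism preserves colimits. -/
theorem preservesColimits_push {X Y : Scheme.{u}} (f : X ⟶ Y) (hf : IsHomeomorph f) :
    PreservesColimitsOfSize.{u, u} (Scheme.Modules.pushforward f) := by
  haveI : IsIso f.base := (TopCat.isIso_iff_isHomeomorph f.base).mpr hf
  haveI : (Coh.pushAb f).IsEquivalence := isEquivalence_pushforward f.base
  haveI : PreservesColimitsOfSize.{u, u} (Groth.L17.toAbShF X) :=
    Groth.L15.KFlatSite.preservesColimits_toSheaf X.ringCatSheaf
  haveI : PreservesColimitsOfSize.{u, u} (Groth.L17.toAbShF Y) :=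
    Groth.L15.KFlatSite.preservesColimits_toSheaf Y.ringCatSheaf
  haveI : (Groth.L17.toAbShF Y).Faithful :=
    inferInstanceAs (SheafOfModules.toSheaf.{u} Y.ringCatSheaf).Faithful
  haveI := Groth.L00.Tensor.grothendieckAbelian_modules Y
  haveI : Balanced Y.Modules := inferInstance
  haveI : (Groth.L17.toAbShF Y).ReflectsIsomorphisms := inferInstance
  haveI : PreservesColimitsOfSize.{u, u} (Scheme.Modules.pushforward f ⋙ Groth.L17.toAbShF Y) :=
    preservesColimits_of_natIso (Groth.L17.toAbPushIso f).symm
  haveI : ReflectsColimitsOfSize.{u, u} (Groth.L17.toAbShF Y) :=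
    reflectsColimits_of_reflectsIsomorphisms
  exact preservesColimits_of_reflects_of_preserves (Scheme.Modules.pushforward f) (Groth.L17.toAbShF Y)

variable {X Y : Scheme.{u}}

/-- A morphism with a section that is surjective on points. -/
theorem isHomeomorph_of_section (h : X ⟶ Y) (s : Y ⟶ X) (hs : s ≫ h = 𝟙 Y) (hsurj : Function.Surjective s) :
    IsHomeomorph h := by
  have h1 : ∀ y, h (s y) = y := fun y => by rw [← Scheme.Hom.comp_apply, hs]; rfl
  let e : X ≃ₜ Y :=
    { toFun := h
      invFun := s
      left_inv := fun x => by obtain ⟨y, rfl⟩ := hsurj x; rw [h1]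
      right_inv := h1
      continuous_toFun := h.continuous
      continuous_invFun := s.continuous }
  exact e.isHomeomorph

/-- A morphism with a section surjective on points is separated. -/
theorem isSeparated_of_section (h : X ⟶ Y) (s : Y ⟶ X) (hs : s ≫ h = 𝟙 Y)
    (hsurj : Function.Surjective s) : IsSeparated h := by
  have hh := isHomeomorph_of_section h s hs hsurj
  haveI : Surjective s := ⟨hsurj⟩
  refine ⟨IsClosedImmersion.of_isPreimmersion _ ?_⟩
  suffices H : Set.range (pullback.diagonal h) = Set.univ by rw [H]; exact isClosed_univ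
  refine Set.eq_univ_of_forall fun p => ?_
  have e : pullback.fst h h p = pullback.snd h h p :=
    hh.injective (by rw [← Scheme.Hom.comp_apply, ← Scheme.Hom.comp_apply, pullback.condition])
  obtain ⟨y, hy⟩ := hsurj (pullback.fst h h p)
  let m : pullback (s ≫ h) (s ≫ h) ⟶ pullback h h :=
    pullback.map _ _ _ _ s s (𝟙 Y) (by rw [Category.comp_id]) (by rw [Category.comp_id])
  haveI : Surjective m := by
    exact MorphismProperty.pullbackMap (P := @Surjective) ‹Surjective s› ‹Surjective s› rfl rfl
  obtain ⟨q, rfl⟩ := m.surjective p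
  refine ⟨s (pullback.fst (s ≫ h) (s ≫ h) q), ?_⟩
  rw [← Scheme.Hom.comp_apply, ← Scheme.Hom.comp_apply]
  refine congrArg (fun k : pullback (s ≫ h) (s ≫ h) ⟶ pullback h h => k q) ?_
  have hq : pullback.fst (s ≫ h) (s ≫ h) = pullback.snd (s ≫ h) (s ≫ h) := by
    have := pullback.condition (f := s ≫ h) (g := s ≫ h)
    simpa [hs] using this
  refine pullback.hom_ext ?_ ?_
  · simp [m]
  · simp [m, hq]

/-- A morphism of finite type with a section surjective on points is finite. -/
theorem isFinite_of_section (h : X ⟶ Y) [LocallyOfFiniteType h] (s : Y ⟶ X) (hs : s ≫ h = 𝟙 Y)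
    (hsurj : Function.Surjective s) : IsFinite h := by
  have hh := isHomeomorph_of_section h s hs hsurj
  have h1 : ∀ y, h (s y) = y := fun y => by rw [← Scheme.Hom.comp_apply, hs]; rfl
  haveI : Surjective s := ⟨hsurj⟩
  haveI : QuasiCompact h := ⟨fun U _ hUc => by
    rw [show (h : X → Y) ⁻¹' U = hh.homeomorph.symm '' U by
      rw [Homeomorph.image_eq_preimage_symm, Homeomorph.symm_symm]; rfl]
    exact hUc.image hh.homeomorph.symm.continuous⟩
  haveI : IsSeparated h := isSeparated_of_section h s hs hsurj
  haveI : UniversallyClosed h := by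
    haveI : UniversallyClosed (s ≫ h) := by rw [hs]; infer_instance
    exact UniversallyClosed.of_comp_surjective s h
  haveI : IsProper h := {}
  haveI : LocallyQuasiFinite h := locallyQuasiFinite_iff_isDiscrete_preimage_singleton.mpr fun y =>
    ((Set.subsingleton_singleton.preimage hh.injective).isDiscrete)
  exact IsFinite.of_isProper_of_locallyQuasiFinite h

theorem isHomeomorph_pr1 {S : Scheme.{u}} (f : X ⟶ S) (n : ℕ) : IsHomeomorph (PrinPart.pr1 f n) :=
  isHomeomorph_of_section _ (PrinPart.toNbhd f n) (PrinPart.toNbhd_pr1 f n)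
    (PrinPart.toInfNbhd_surjective _ n)

theorem preservesColimits_prinPart {S : Scheme.{u}} (f : X ⟶ S) (n : ℕ) :
    PreservesColimitsOfSize.{u, u}
      ((Scheme.Modules.pullback (PrinPart.pr2 f n)) ⋙ (Scheme.Modules.pushforward (PrinPart.pr1 f n))) := by
  haveI : (Scheme.Modules.pullback (PrinPart.pr2 f n)).IsLeftAdjoint :=
    (Scheme.Modules.pullbackPushforwardAdjunction _).isLeftAdjoint
  haveI : PreservesColimitsOfSize.{u, u} (Scheme.Modules.pullback (PrinPart.pr2 f n)) := inferInstance
  haveI := preservesColimits_push (PrinPart.pr1 f n) (isHomeomorph_pr1 f n)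
  exact inferInstance

end Groth.L07.PrinParts
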