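import Groth.Agent.L07.PrinParts.Symm
import Groth.Agent.L07.PrinParts.Push
import Groth.Agent.L29.LocFree
import Groth.Agent.L29.RelPC.FlatPull
import Groth.Agent.L20.ModStalk
import Groth.Agent.L17.ClosedPush
import Groth.Prelude.Def_FlatMod2

/-!
Exactness of the functor of principal parts (EGA IV 16.7.2).
-/

universe u

open CategoryTheory CategoryTheory.Limits AlgebraicGeometry TopologicalSpace Topology

namespace Groth.L07.PrinParts

set_option linter.style.haveILetI false
set_option maxSynthPendingDepth 3
set_option backward.isDefEq.respectTransparency.types false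
set_option backward.isDefEq.respectTransparency false

open Groth.L00.Tensor Groth.L00.StalkTensor Groth.L00.PullStalk

variable {X Y : Scheme.{u}}

/-- The stalk of the structure module is free on the germ of one. -/
theorem bijective_smul_germ_one (x : X) :
    Function.Bijective fun r : X.presheaf.stalk x =>
      r • germ (pre (Coh.structureModule X)) x (U := ⊤) trivial (1 : Γ(X, ⊤)) := by
  have key : ∀ (U : X.Opens) (hx : x ∈ U) (s : Γ(X, U)),
      X.presheaf.germ U x hx s • germ (pre (Coh.structureModule X)) x (U := ⊤) trivial (1 : Γ(X, ⊤)) =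
        germ (pre (Coh.structureModule X)) x hx s := fun U hx s => by
    rw [← germ_rs (pre (Coh.structureModule X)) x (homOfLE le_top : U ⟶ ⊤) hx, ← germ_smul']
    refine congrArg _ ?_
    exact (congrArg (s * ·) (map_one (X.presheaf.map (homOfLE le_top : U ⟶ ⊤).op).hom)).trans (mul_one s)
  refine ⟨fun a b h => ?_, fun m => ?_⟩
  · obtain ⟨U, hU, a, rfl⟩ := X.presheaf.exists_germ_eq a
    obtain ⟨V, hV, b, rfl⟩ := X.presheaf.exists_germ_eq b
    obtain ⟨W, hW, i, j, hij⟩ := germ_eq (pre (Coh.structureModule X)) x hU hV
      (((key U hU a).symm.trans h).trans (key V hV b))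
    rw [← TopCat.Presheaf.germ_res_apply X.presheaf i x hW a,
      ← TopCat.Presheaf.germ_res_apply X.presheaf j x hW b]
    exact congrArg (X.presheaf.germ W x hW) hij
  · obtain ⟨U, hU, s, rfl⟩ := exists_germ (pre (Coh.structureModule X)) x m
    exact ⟨_, key U hU s⟩

/-- A morphism is flat when the direct image of the structure sheaf is flat, for an inducing map. -/
theorem flat_of_isFlat_push (f : X ⟶ Y) (hf : IsInducing f)
    (h : FlatMod.IsFlat ((Scheme.Modules.pushforward f).obj (Coh.structureModule X))) : Flat f := by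
  refine Flat.of_stalkMap f fun x => ?_
  letI := (φ f x).toAlgebra
  show Module.Flat (Y.presheaf.stalk (f x)) (X.presheaf.stalk x)
  haveI : Module.Flat (Y.presheaf.stalk (f x))
      (((Scheme.Modules.pushforward f).obj (Coh.structureModule X)).presheaf.stalk (f x)) := h (f x)
  haveI := TopCat.Presheaf.stalkPushforward.stalkPushforward_iso_of_isInducing AddCommGrpCat.{u}
    hf (Coh.structureModule X).presheaf x
  have hc : Function.Bijective (Groth.L17.ClosedPush.c₀ f (Coh.structureModule X) x) :=
    ConcreteCategory.bijective_of_isIso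
      (TopCat.Presheaf.stalkPushforward AddCommGrpCat.{u} f.base (Coh.structureModule X).presheaf x)
  let g : X.presheaf.stalk x ≃+ St (pre (Coh.structureModule X)) x :=
    AddEquiv.ofBijective (AddMonoidHom.mk'
      (fun r => r • germ (pre (Coh.structureModule X)) x (U := ⊤) trivial (1 : Γ(X, ⊤)))
      fun a b => add_smul a b _) (bijective_smul_germ_one x)
  let e : ((Scheme.Modules.pushforward f).obj (Coh.structureModule X)).presheaf.stalk (f x) ≃+
      X.presheaf.stalk x := (AddEquiv.ofBijective _ hc).trans g.symm
  have he : ∀ (c : Y.presheaf.stalk (f x)) p, e (c • p) = φ f x c * e p := fun c p => by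
    apply g.injective
    refine (g.apply_symm_apply _).trans ((Groth.L17.ClosedPush.c₀_smul f _ x c p).trans ?_)
    show φ f x c • _ = g (φ f x c * e p)
    refine Eq.trans ?_ (mul_smul (φ f x c) (e p) _).symm
    exact congrArg (fun z : St (pre (Coh.structureModule X)) x => φ f x c • z) (g.apply_symm_apply _).symm
  exact Module.Flat.of_linearEquiv
    ({ e with map_smul' := fun c p => by exact he c p } :
      ((Scheme.Modules.pushforward f).obj (Coh.structureModule X)).presheaf.stalk (f x) ≃ₗ[Y.presheaf.stalk (f x)]
        X.presheaf.stalk x).symm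

theorem isFlat_of_iso {M N : X.Modules} (e : M ≅ N) (h : FlatMod.IsFlat M) : FlatMod.IsFlat N := fun x => by
  haveI : Module.Flat (X.presheaf.stalk x) ((Groth.L00.Stk.F X x).obj M) := h x
  exact Module.Flat.of_linearEquiv ((Groth.L00.Stk.F X x).mapIso e).toLinearEquiv.symm

theorem preservesFiniteLimits_prinPart {S : Scheme.{u}} (f : X ⟶ S) (n : ℕ)
    (hP : FlatMod.IsFlat (PrinPart.P f n)) :
    PreservesFiniteLimits
      ((Scheme.Modules.pullback (PrinPart.pr2 f n)) ⋙ (Scheme.Modules.pushforward (PrinPart.pr1 f n))) := by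
  haveI h1 : Flat (PrinPart.pr1 f n) := flat_of_isFlat_push _ (isHomeomorph_pr1 f n).isInducing
    (isFlat_of_iso ((Scheme.Modules.pushforward (PrinPart.pr1 f n)).mapIso
      (Groth.L29.LocFree.pullbackUnitIso (PrinPart.pr2 f n))) hP)
  obtain ⟨σ, -, hσ, hσ1, -⟩ := exists_symmetry f n
  haveI : IsIso σ := ⟨σ, hσ, hσ⟩
  haveI : Flat (PrinPart.pr2 f n) := by rw [← hσ1]; infer_instance
  haveI := Groth.L29.RelPC.preservesFiniteLimits_pullback (PrinPart.pr2 f n)
  haveI : PreservesFiniteLimits (Scheme.Modules.pushforward (PrinPart.pr1 f n)) := by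
    haveI := (Scheme.Modules.pullbackPushforwardAdjunction (PrinPart.pr1 f n)).rightAdjoint_preservesLimits
    exact inferInstance
  exact comp_preservesFiniteLimits _ _

end Groth.L07.PrinParts
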