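import Groth.Agent.L07.PrinParts.Stalk
import Groth.Agent.L20.ModStalk

/-!
The image of `d^n` generates the principal parts (EGA IV 16.3.8, 16.7.1).
-/

universe u

open CategoryTheory CategoryTheory.Limits AlgebraicGeometry TopologicalSpace Topology
open scoped TensorProduct

namespace Groth.L07.PrinParts

set_option linter.style.haveILetI false
set_option maxSynthPendingDepth 3
set_option backward.isDefEq.respectTransparency.types false
set_option backward.isDefEq.respectTransparency false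

variable {X S : Scheme.{u}} (f : X ⟶ S) (n : ℕ) (F : X.Modules)

/-- The pullback of `F` to the neighbourhood of the diagonal. -/
noncomputable abbrev Q : (PrinPart.nbhd f n).Modules :=
  (Scheme.Modules.pullback (PrinPart.pr2 f n)).obj F

/-- The sections generated by the image of `d^n`. -/
noncomputable def gen (U : X.Opens) : AddSubmonoid Γ(PrinPart.PMod f n F, U) :=
  AddSubmonoid.closure {s | ∃ (a : Γ(X, U)) (t : Γ(F, U)), a • PrinPart.dP f n F U t = s}

theorem gen_map {U V : X.Opens} (e : V ≤ U) {s : Γ(PrinPart.PMod f n F, U)} (hs : s ∈ gen f n F U) :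
    (PrinPart.PMod f n F).presheaf.map (homOfLE e).op s ∈ gen f n F V := by
  induction hs using AddSubmonoid.closure_induction with
  | mem s hs =>
    obtain ⟨a, t, rfl⟩ := hs
    refine AddSubmonoid.subset_closure
      ⟨X.presheaf.map (homOfLE e).op a, F.presheaf.map (homOfLE e).op t, ?_⟩
    rw [PrinPart.dP_map f n F e t]
    exact ((PrinPart.PMod f n F).map_smul (homOfLE e) a (PrinPart.dP f n F U t)).symm
  | zero => rw [map_zero]; exact zero_mem _
  | add a b _ _ ha hb => rw [map_add]; exact add_mem ha hb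

/-- The germ of a section of `P^n(F)` at a point of the neighbourhood. -/
noncomputable def germP {U : X.Opens} {x' : PrinPart.nbhd f n} (hx : x' ∈ PrinPart.pr1 f n ⁻¹ᵁ U) :
    Γ(PrinPart.PMod f n F, U) →+ (Q f n F).presheaf.stalk x' :=
  ((Q f n F).presheaf.germ (PrinPart.pr1 f n ⁻¹ᵁ U) x' hx).hom

theorem germP_map {U V : X.Opens} (e : V ≤ U) {x' : PrinPart.nbhd f n}
    (hx : x' ∈ PrinPart.pr1 f n ⁻¹ᵁ V) (s : Γ(PrinPart.PMod f n F, U)) :
    germP f n F hx ((PrinPart.PMod f n F).presheaf.map (homOfLE e).op s) =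
      germP f n F ((PrinPart.pr1 f n).preimage_mono e hx) s :=
  TopCat.Presheaf.germ_res_apply (Q f n F).presheaf (homOfLE ((PrinPart.pr1 f n).preimage_mono e)) x' hx
    (show Γ(Q f n F, PrinPart.pr1 f n ⁻¹ᵁ U) from s)

theorem germP_smul {U : X.Opens} {x' : PrinPart.nbhd f n} (hz : PrinPart.pr2 f n x' ∈ U)
    (hx : x' ∈ PrinPart.pr1 f n ⁻¹ᵁ U) (a : Γ(X, U)) (s : Γ(PrinPart.PMod f n F, U)) :
    germP f n F hx (a • s) = p1 f n x' (X.presheaf.germ U _ hz a) • germP f n F hx s := by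
  rw [p1_germ f n x' hz hx]
  exact Groth.L20.ModStalk.germ_smul (Q f n F) hx ((PrinPart.pr1 f n).app U a)
    (show Γ(Q f n F, PrinPart.pr1 f n ⁻¹ᵁ U) from s)

/-- The stalk of `P^n(F)` as a tensor product. -/
noncomputable def toTensor (x' : PrinPart.nbhd f n) :
    (Q f n F).presheaf.stalk x' →+
      (ModuleCat.extendScalars (Groth.L00.PullStalk.φ (PrinPart.pr2 f n) x')).obj
        ((Groth.L00.Stk.F X (PrinPart.pr2 f n x')).obj F) :=
  ((Groth.L00.PullStalk.stalkIso (PrinPart.pr2 f n) x').hom.app F).hom.toAddMonoidHom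

theorem toTensor_bijective (x' : PrinPart.nbhd f n) : Function.Bijective (toTensor f n F x') :=
  ConcreteCategory.bijective_of_isIso ((Groth.L00.PullStalk.stalkIso (PrinPart.pr2 f n) x').hom.app F)

theorem toTensor_smul_dP {U : X.Opens} {x' : PrinPart.nbhd f n} (hz : PrinPart.pr2 f n x' ∈ U)
    (hx : x' ∈ PrinPart.pr1 f n ⁻¹ᵁ U) (a : Γ(X, U)) (t : Γ(F, U)) :
    letI := (Groth.L00.PullStalk.φ (PrinPart.pr2 f n) x').toAlgebra
    toTensor f n F x' (germP f n F hx (a • PrinPart.dP f n F U t)) =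
      (show (PrinPart.nbhd f n).presheaf.stalk x' ⊗[X.presheaf.stalk (PrinPart.pr2 f n x')]
          F.presheaf.stalk (PrinPart.pr2 f n x') from
        p1 f n x' (X.presheaf.germ U _ hz a) ⊗ₜ F.presheaf.germ U _ hz t) := by
  letI := (Groth.L00.PullStalk.φ (PrinPart.pr2 f n) x').toAlgebra
  rw [germP_smul f n F hz hx]
  let c : (PrinPart.nbhd f n).presheaf.stalk x' := p1 f n x' (X.presheaf.germ U _ hz a)
  refine (((Groth.L00.PullStalk.stalkIso (PrinPart.pr2 f n) x').hom.app F).hom.map_smul c _).trans ?_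
  refine (congrArg (c • ·) (stalkIso_dP f n x' F hz hx t)).trans ?_
  exact congrArg (· ⊗ₜ F.presheaf.germ U _ hz t) (mul_one c)

theorem smul_tmul_of_algebra {R O : Type u} [CommRing R] [CommRing O] (φ : R →+* O) {M : Type u}
    [AddCommGroup M] [Module R M] (d : R) (o : O) (m : M) :
    letI := φ.toAlgebra
    (o * φ d) ⊗ₜ[R] m = o ⊗ₜ[R] (d • m) := by
  letI := φ.toAlgebra
  rw [mul_comm]
  exact TensorProduct.smul_tmul d o m

/-- The image of `d^n` generates the stalks. -/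
theorem exists_gen (x' : PrinPart.nbhd f n) (ζ : (Q f n F).presheaf.stalk x') :
    ∃ (U : X.Opens) (hx : x' ∈ PrinPart.pr1 f n ⁻¹ᵁ U), ∃ s ∈ gen f n F U, germP f n F hx s = ζ := by
  obtain ⟨_, ⟨V, hV, rfl⟩, hfV, -⟩ := S.isBasis_affineOpens.exists_subset_of_mem_open
    (Set.mem_univ (f (PrinPart.pr2 f n x'))) isOpen_univ
  obtain ⟨U, hU, hz, hUV⟩ := exists_isAffineOpen_mem_and_subset
    (U := f ⁻¹ᵁ V) (x := PrinPart.pr2 f n x') hfV
  obtain ⟨θ, hθ, hθ1, hθ2⟩ := exists_stalk_equiv f n x' hU hV hUV hz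
  letI := (Groth.L00.PullStalk.φ (PrinPart.pr2 f n) x').toAlgebra
  letI := stalkAlg f hUV hz
  suffices h : ∀ w : (PrinPart.nbhd f n).presheaf.stalk x' ⊗[X.presheaf.stalk (PrinPart.pr2 f n x')]
      F.presheaf.stalk (PrinPart.pr2 f n x'), ∃ (U : X.Opens) (hx : x' ∈ PrinPart.pr1 f n ⁻¹ᵁ U),
      ∃ s ∈ gen f n F U, toTensor f n F x' (germP f n F hx s) = w by
    obtain ⟨U, hx, s, hs, he⟩ := h (toTensor f n F x' ζ)
    exact ⟨U, hx, s, hs, (toTensor_bijective f n F x').1 he⟩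
  have hzero : ∃ (U : X.Opens) (hx : x' ∈ PrinPart.pr1 f n ⁻¹ᵁ U),
      ∃ s ∈ gen f n F U, toTensor f n F x' (germP f n F hx s) = 0 :=
    ⟨⊤, trivial, 0, zero_mem _, by rw [map_zero, map_zero]⟩
  have hadd : ∀ w w', (∃ (U : X.Opens) (hx : x' ∈ PrinPart.pr1 f n ⁻¹ᵁ U),
      ∃ s ∈ gen f n F U, toTensor f n F x' (germP f n F hx s) = w) →
      (∃ (U : X.Opens) (hx : x' ∈ PrinPart.pr1 f n ⁻¹ᵁ U),
      ∃ s ∈ gen f n F U, toTensor f n F x' (germP f n F hx s) = w') →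
      ∃ (U : X.Opens) (hx : x' ∈ PrinPart.pr1 f n ⁻¹ᵁ U),
      ∃ s ∈ gen f n F U, toTensor f n F x' (germP f n F hx s) = w + w' := by
    rintro w w' ⟨U₁, h₁, s₁, hs₁, rfl⟩ ⟨U₂, h₂, s₂, hs₂, rfl⟩
    refine ⟨U₁ ⊓ U₂, ⟨h₁, h₂⟩, _,
      add_mem (gen_map f n F inf_le_left hs₁) (gen_map f n F inf_le_right hs₂), ?_⟩
    rw [map_add, map_add, germP_map f n F inf_le_left, germP_map f n F inf_le_right]
  intro w
  induction w using TensorProduct.induction_on with
  | zero => exact hzero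
  | add a b ha hb => exact hadd a b ha hb
  | tmul o m =>
    obtain ⟨p, rfl⟩ := hθ.2 o
    obtain ⟨y, rfl⟩ := Ideal.Quotient.mk_surjective p
    induction y using TensorProduct.induction_on with
    | zero =>
      obtain ⟨U₀, h₀, s₀, hs₀, e₀⟩ := hzero
      exact ⟨U₀, h₀, s₀, hs₀, by rw [e₀, map_zero, map_zero, TensorProduct.zero_tmul]⟩
    | add a b ha hb =>
      obtain ⟨U₀, h₀, s₀, hs₀, e₀⟩ := hadd _ _ ha hb
      exact ⟨U₀, h₀, s₀, hs₀, e₀.trans ((TensorProduct.add_tmul _ _ _).symm.trans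
        (congrArg (· ⊗ₜ[X.presheaf.stalk (PrinPart.pr2 f n x')] m)
          ((congrArg θ ((Ideal.Quotient.mk _).map_add a b)).trans (θ.map_add _ _)).symm))⟩
    | tmul c d =>
      have h3 : θ (Ideal.Quotient.mk _ (c ⊗ₜ[Γ(S, V)] d)) =
          p1 f n x' c * Groth.L00.PullStalk.φ (PrinPart.pr2 f n) x' d := by
        refine Eq.trans ?_ (congrArg₂ (· * ·) (hθ1 c) (hθ2 d))
        refine Eq.trans ?_ (θ.map_mul _ _)
        refine congrArg θ (Eq.trans (congrArg _ ?_) ((Ideal.Quotient.mk _).map_mul _ _))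
        exact ((Algebra.TensorProduct.tmul_mul_tmul c 1 1 d).trans
          (congrArg₂ (· ⊗ₜ[Γ(S, V)] ·) (mul_one c) (one_mul d))).symm
      have key : θ (Ideal.Quotient.mk _ (c ⊗ₜ[Γ(S, V)] d)) ⊗ₜ[X.presheaf.stalk (PrinPart.pr2 f n x')] m =
          p1 f n x' c ⊗ₜ (d • m) := by
        rw [h3]
        exact smul_tmul_of_algebra (Groth.L00.PullStalk.φ (PrinPart.pr2 f n) x') d (p1 f n x' c) m
      obtain ⟨U₁, h₁, a, rfl⟩ := X.presheaf.exists_germ_eq c
      obtain ⟨U₂, h₂, t, ht⟩ := TopCat.Presheaf.exists_germ_eq F.presheaf (d • m)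
      refine ⟨U₁ ⊓ U₂, (PrinPart.preimage_pr1 f n _).symm.le ⟨h₁, h₂⟩,
        X.presheaf.map (homOfLE inf_le_left).op a •
          PrinPart.dP f n F _ (F.presheaf.map (homOfLE inf_le_right).op t),
        AddSubmonoid.subset_closure ⟨_, _, rfl⟩, ?_⟩
      rw [toTensor_smul_dP f n F (show PrinPart.pr2 f n x' ∈ U₁ ⊓ U₂ from ⟨h₁, h₂⟩),
        TopCat.Presheaf.germ_res_apply, TopCat.Presheaf.germ_res_apply, ht, key]

/-- A neighbourhood of a point of the neighbourhood comes from the scheme. -/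
theorem exists_preimage_le {W : (PrinPart.nbhd f n).Opens} {x' : PrinPart.nbhd f n} (hx : x' ∈ W) :
    ∃ U : X.Opens, x' ∈ PrinPart.pr1 f n ⁻¹ᵁ U ∧ PrinPart.pr1 f n ⁻¹ᵁ U ≤ W := by
  have h : ∀ y : PrinPart.nbhd f n, PrinPart.toNbhd f n (PrinPart.pr1 f n y) = y := fun y => by
    obtain ⟨z, rfl⟩ := PrinPart.toInfNbhd_surjective (PrinPart.diagCl f) n y
    rw [← Scheme.Hom.comp_apply, ← Scheme.Hom.comp_apply, ← Category.assoc, PrinPart.toNbhd_pr1,
      Category.id_comp]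
  exact ⟨PrinPart.toNbhd f n ⁻¹ᵁ W, show PrinPart.toNbhd f n (PrinPart.pr1 f n x') ∈ W by rw [h]; exact hx,
    fun y hy => by rw [← h y]; exact hy⟩

/-- Every section is locally generated by the image of `d^n`. -/
theorem local_gen {U : X.Opens} (s : Γ(PrinPart.PMod f n F, U)) (x : X) (hx : x ∈ U) :
    ∃ (V : X.Opens) (e : V ≤ U), x ∈ V ∧ (PrinPart.PMod f n F).presheaf.map (homOfLE e).op s ∈ gen f n F V := by
  let x' := PrinPart.toNbhd f n x
  have h1 : PrinPart.pr1 f n x' = x := by rw [← Scheme.Hom.comp_apply, PrinPart.toNbhd_pr1]; rfl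
  have hx' : x' ∈ PrinPart.pr1 f n ⁻¹ᵁ U := show PrinPart.pr1 f n x' ∈ U by rw [h1]; exact hx
  obtain ⟨U₀, h₀, s₀, hs₀, he⟩ := exists_gen f n F x' (germP f n F hx' s)
  obtain ⟨W, hW, i, j, hij⟩ := TopCat.Presheaf.germ_eq (Q f n F).presheaf x' h₀ hx'
    (show Γ(Q f n F, PrinPart.pr1 f n ⁻¹ᵁ U₀) from s₀) (show Γ(Q f n F, PrinPart.pr1 f n ⁻¹ᵁ U) from s) he
  obtain ⟨U₁, hx₁, hle⟩ := exists_preimage_le f n hW
  refine ⟨U₁ ⊓ (U₀ ⊓ U), inf_le_right.trans inf_le_right, ?_, ?_⟩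
  · rw [← h1]; exact ⟨hx₁, h₀, hx'⟩
  · have h2 := congrArg ((Q f n F).presheaf.map (homOfLE (show PrinPart.pr1 f n ⁻¹ᵁ (U₁ ⊓ (U₀ ⊓ U)) ≤ W from
      ((PrinPart.pr1 f n).preimage_mono inf_le_left).trans hle)).op) hij
    rw [← ConcreteCategory.comp_apply, ← ConcreteCategory.comp_apply, ← Functor.map_comp,
      ← Functor.map_comp] at h2
    have h3 := gen_map f n F (show U₁ ⊓ (U₀ ⊓ U) ≤ U₀ from inf_le_right.trans inf_le_left) hs₀
    exact h2 ▸ h3

end Groth.L07.PrinParts
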