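import Groth.Agent.L07.PrinParts.GrBaseChange
import Groth.Agent.L07.GrModel
import Groth.Agent.L05.Glue.Flat
import Groth.Agent.L18.LocFreeTilde
import Groth.Agent.L19.ConormalAffine

/-!
Graded pieces of a section and base change (EGA IV 16.2.4).
-/

universe u

open CategoryTheory CategoryTheory.Limits AlgebraicGeometry TopologicalSpace Opposite
open scoped TensorProduct

namespace Groth.L07.PrinParts

set_option linter.style.haveILetI false
set_option maxSynthPendingDepth 3
set_option backward.isDefEq.respectTransparency.types false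
set_option backward.isDefEq.respectTransparency false

/-- The graded piece inside the quotient. -/
theorem exists_quot_smul_map {A : Type u} [CommRing A] (I : Ideal A) (k : ℕ) :
    ∃ j : (↥(I ^ k) ⧸ (I • (⊤ : Submodule A ↥(I ^ k)))) →ₗ[A] A ⧸ I ^ (k + 1),
      Function.Injective j ∧ ∀ x, j (Submodule.Quotient.mk x) = Submodule.Quotient.mk (x : A) := by
  have hmap : (I • (⊤ : Submodule A ↥(I ^ k))).map (I ^ k).subtype = I ^ (k + 1) := by
    rw [Submodule.map_smul'', Submodule.map_top, Submodule.range_subtype, smul_eq_mul, pow_succ']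
  have hsm : ∀ x : ↥(I ^ k), x ∈ I • (⊤ : Submodule A ↥(I ^ k)) ↔ (x : A) ∈ I ^ (k + 1) := fun x => by
    rw [← hmap]
    refine ⟨fun h => Submodule.mem_map_of_mem h, ?_⟩
    rintro ⟨y, hy, hyx⟩
    exact Subtype.ext hyx ▸ hy
  refine ⟨Submodule.liftQ _ ((Submodule.mkQ (I ^ (k + 1))) ∘ₗ (I ^ k).subtype) fun x hx =>
    LinearMap.mem_ker.mpr ((Submodule.Quotient.mk_eq_zero _).mpr ((hsm x).mp hx)), ?_, fun x => rfl⟩
  rw [injective_iff_map_eq_zero]
  intro x hx
  obtain ⟨x, rfl⟩ := Submodule.Quotient.mk_surjective _ x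
  exact (Submodule.Quotient.mk_eq_zero _).mpr ((hsm x).mpr ((Submodule.Quotient.mk_eq_zero _).mp hx))

theorem flat_step {B A N : Type u} [CommRing B] [CommRing A] [Algebra B A] [AddCommGroup N] [Module A N]
    [Module B N] [IsScalarTower B A N] (I : Ideal A) (k : ℕ) [Module.Flat B (A ⧸ I ^ k)]
    (e : N ≃ₗ[A] ↥(I ^ k) ⧸ (I • (⊤ : Submodule A ↥(I ^ k))))
    (j : (↥(I ^ k) ⧸ (I • (⊤ : Submodule A ↥(I ^ k)))) →ₗ[A] A ⧸ I ^ (k + 1)) (hj : Function.Injective j)
    (hje : ∀ x, j (Submodule.Quotient.mk x) = Submodule.Quotient.mk (x : A)) (hN : Module.Flat B N) :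
    Module.Flat B (A ⧸ I ^ (k + 1)) := by
  haveI := hN
  obtain ⟨p, hp, hpk⟩ : ∃ p : (A ⧸ I ^ (k + 1)) →ₗ[A] A ⧸ I ^ k, Function.Surjective p ∧
      ∀ a : A, p (Submodule.Quotient.mk a) = Submodule.Quotient.mk a :=
    ⟨Submodule.factor (Ideal.pow_le_pow_right k.le_succ), Submodule.factor_surjective _, fun a => rfl⟩
  let g₁ : N →ₗ[B] A ⧸ I ^ (k + 1) := (j ∘ₗ e.toLinearMap).restrictScalars B
  have hg₁ : Function.Injective g₁ := fun x y h => e.injective (hj h)
  refine Groth.L07.FlatDescent.flat_of_shortExact g₁ (p.restrictScalars B) hg₁ hp fun z => ?_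
  obtain ⟨a, rfl⟩ := Submodule.Quotient.mk_surjective _ z
  rw [LinearMap.restrictScalars_apply, hpk]
  refine ⟨fun hz => ?_, ?_⟩
  · refine ⟨e.symm (Submodule.Quotient.mk ⟨a, (Submodule.Quotient.mk_eq_zero _).mp hz⟩), ?_⟩
    show j (e (e.symm _)) = _
    rw [e.apply_symm_apply, hje]
  · rintro ⟨w, hw⟩
    obtain ⟨y, hy⟩ := Submodule.Quotient.mk_surjective _ (e w)
    change j (e w) = _ at hw
    rw [← hy, hje] at hw
    rw [← hpk, ← hw, hpk]
    exact (Submodule.Quotient.mk_eq_zero _).mpr y.2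

/-- `A / I ^ m` is flat over the base when the graded pieces of lower degree are. -/
theorem flat_quot_pow {B A C : Type u} [CommRing B] [CommRing A] [CommRing C] [Algebra B A] [Algebra A C]
    [Algebra B C] [IsScalarTower B A C] (I : Ideal A) (hs : Function.Surjective (algebraMap A C))
    (hk : RingHom.ker (algebraMap A C) = I) (m : ℕ) (h : ∀ k < m, Module.Flat B (C ⊗[A] ↥(I ^ k))) :
    Module.Flat B (A ⧸ I ^ m) := by
  induction m with
  | zero =>
    haveI : Subsingleton (A ⧸ I ^ 0) :=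
      Ideal.Quotient.subsingleton_iff.mpr (by rw [pow_zero, Ideal.one_eq_top])
    infer_instance
  | succ k ih =>
    haveI := ih fun j hj => h j (hj.trans k.lt_succ_self)
    obtain ⟨e⟩ : Nonempty (C ⊗[A] ↥(I ^ k) ≃ₗ[A] ↥(I ^ k) ⧸ (I • (⊤ : Submodule A ↥(I ^ k)))) := by
      subst hk
      exact ⟨TensorProduct.congr (Ideal.quotientKerAlgEquivOfSurjective (f := Algebra.ofId A C) hs).symm.toLinearEquiv
        (LinearEquiv.refl A _) ≪≫ₗ TensorProduct.quotTensorEquivQuotSMul _ _⟩
    obtain ⟨j, hj, hje⟩ := exists_quot_smul_map I k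
    exact flat_step I k e j hj hje (h k k.lt_succ_self)

/-- Injectivity after a base change presented by a pushout. -/
theorem injective_of_pushout {B A B' A' M N : Type u} [CommRing B] [CommRing A] [CommRing B'] [CommRing A']
    [Algebra B A] [Algebra B B'] [Algebra A A'] [Algebra B' A'] [Algebra B A'] [IsScalarTower B A A']
    [IsScalarTower B B' A'] [Algebra.IsPushout B B' A A'] [AddCommGroup M] [Module A M] [Module B M]
    [IsScalarTower B A M] [AddCommGroup N] [Module A N] [Module A' N] [IsScalarTower A A' N]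
    (p : M →ₗ[A] N) (hp : IsBaseChange A' p) (ι : M →ₗ[A] A)
    (hι : Function.Injective ((ι.restrictScalars B).lTensor B')) (ψ : N →+ A')
    (hψs : ∀ (a : A') q, ψ (a • q) = a * ψ q) (hψp : ∀ m, ψ (p m) = algebraMap A A' (ι m)) :
    Function.Injective ψ := by
  let E := Algebra.IsPushout.equiv B B' A A'
  let L : B' ⊗[B] M →+ N := TensorProduct.liftAddHom
    (AddMonoidHom.mk' (fun b => AddMonoidHom.mk' (fun m => algebraMap B' A' b • p m)
      fun m m' => by rw [map_add, smul_add]) fun b b' => by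
        ext m; exact (congrArg (· • p m) (map_add _ b b')).trans (add_smul _ _ _))
    fun c b m => by
      show algebraMap B' A' (c • b) • p m = algebraMap B' A' b • p (c • m)
      rw [← IsScalarTower.algebraMap_smul A c m, p.map_smul, Algebra.smul_def, map_mul,
        ← IsScalarTower.algebraMap_apply, mul_comm, mul_smul, IsScalarTower.algebraMap_apply B A A',
        IsScalarTower.algebraMap_smul (R := A) A' (algebraMap B A c)]
  have hL : ∀ z, E ((ι.restrictScalars B).lTensor B' z) = ψ (L z) := fun z => by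
    induction z using TensorProduct.induction_on with
    | zero => simp only [map_zero]
    | add a b ha hb => simp only [map_add, ha, hb]
    | tmul b m =>
      show E (b ⊗ₜ[B] ι m) = ψ (algebraMap B' A' b • p m)
      rw [hψs, hψp, Algebra.IsPushout.equiv_tmul]
  have hcl : ∀ (a : A) (z : B' ⊗[B] M) (b : B'), ∃ w, L w = (algebraMap B' A' b * algebraMap A A' a) • L z := by
    intro a z b
    induction z using TensorProduct.induction_on with
    | zero => exact ⟨0, by rw [map_zero, smul_zero]⟩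
    | add x y hx hy =>
      obtain ⟨w, hw⟩ := hx; obtain ⟨w', hw'⟩ := hy
      exact ⟨w + w', by rw [map_add, map_add, smul_add, hw, hw']⟩
    | tmul b₁ m =>
      refine ⟨(b * b₁) ⊗ₜ[B] (a • m), ?_⟩
      show algebraMap B' A' (b * b₁) • p (a • m) =
        (algebraMap B' A' b * algebraMap A A' a) • algebraMap B' A' b₁ • p m
      rw [map_smul, ← IsScalarTower.algebraMap_smul A' a, smul_smul, smul_smul, map_mul]
      congr 1
      ring
  have hLs : ∀ q, ∃ z, L z = q := fun q => by
    induction q using hp.inductionOn with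
    | zero => exact ⟨0, map_zero _⟩
    | tmul m =>
      refine ⟨(1 : B') ⊗ₜ[B] m, ?_⟩
      show algebraMap B' A' 1 • p m = _
      rw [map_one, one_smul]
    | smul s n hn =>
      obtain ⟨z, rfl⟩ := hn
      obtain ⟨t, rfl⟩ := E.surjective s
      induction t using TensorProduct.induction_on with
      | zero => exact ⟨0, by rw [map_zero, map_zero, zero_smul]⟩
      | add x y hx hy =>
        obtain ⟨w, hw⟩ := hx; obtain ⟨w', hw'⟩ := hy
        exact ⟨w + w', by rw [map_add, map_add, add_smul, hw, hw']⟩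
      | tmul b a => rw [Algebra.IsPushout.equiv_tmul]; exact hcl a z b
    | add x y hx hy =>
      obtain ⟨w, rfl⟩ := hx; obtain ⟨w', rfl⟩ := hy
      exact ⟨w + w', map_add _ _ _⟩
  rw [injective_iff_map_eq_zero]
  intro q hq
  obtain ⟨z, rfl⟩ := hLs q
  have h0 : E ((ι.restrictScalars B).lTensor B' z) = E ((ι.restrictScalars B).lTensor B' 0) := by
    rw [hL, hq, map_zero, map_zero]
  rw [hι (E.injective h0), map_zero]

variable {X X' Y Y' : Scheme.{u}}

theorem flat_gr_sections (f : Y ⟶ X) [IsClosedImmersion f] {V : X.Opens} (hV : IsAffineOpen V) {k : ℕ}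
    (hfl : FlatMod.IsFlat (PrinPart.grMod f k)) {B : Type u} [CommRing B] [Algebra B Γ(X, V)]
    [Algebra B Γ(Y, f ⁻¹ᵁ V)] [Module.Flat B Γ(Y, f ⁻¹ᵁ V)] :
    letI := (f.app V).hom.toAlgebra
    ∀ [IsScalarTower B Γ(X, V) Γ(Y, f ⁻¹ᵁ V)],
      Module.Flat B (Γ(Y, f ⁻¹ᵁ V) ⊗[Γ(X, V)] ↥(f.ker.ideal ⟨V, hV⟩ ^ k)) := by
  let A := Γ(X, V)
  let C := Γ(Y, f ⁻¹ᵁ V)
  letI : Algebra A C := (f.app V).hom.toAlgebra
  intro _
  let M := ClSub.idealMod (f.ker ^ k)
  let P := (Scheme.Modules.pullback f).obj M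
  haveI : Coh.IsQCoh P := Groth.L16.AffineBC.isQCoh_pullback f M
  haveI : Module.Flat C Γ(P, f ⁻¹ᵁ V) := Groth.L18.LFP.flat_sections P hfl (hV.preimage f)
  letI : Module A Γ(P, f ⁻¹ᵁ V) := Module.compHom _ (f.appLE V (f ⁻¹ᵁ V) le_rfl).hom
  have halg : (f.appLE V (f ⁻¹ᵁ V) le_rfl).hom.toAlgebra = (f.app V).hom.toAlgebra := by
    rw [Scheme.Hom.app_eq_appLE]
  haveI : IsScalarTower A C Γ(P, f ⁻¹ᵁ V) := IsScalarTower.of_algebraMap_smul fun a x =>
    congrArg (fun k : A ⟶ C => k.hom a • x) (Scheme.Hom.app_eq_appLE (f := f) (U := V))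
  have hbc : IsBaseChange C (Groth.L16.AffineBC.pullRes f M (le_refl (f ⁻¹ᵁ V))) := by
    convert! Groth.L16.AffineBC.isBaseChange_pull f M hV (hV.preimage f) le_rfl using 1 <;>
      exact halg.symm
  let ιV : Γ(M, V) →ₗ[A] A :=
    { toFun := fun m => (ClSub.idealModι (f.ker ^ k)).app V m
      map_add' := fun a b => map_add _ a b
      map_smul' := fun r m => (ClSub.idealModι (f.ker ^ k)).app_smul r m }
  have hr : LinearMap.range ιV = f.ker.ideal ⟨V, hV⟩ ^ k := by
    ext a
    refine (Groth.L18.IdealModule.mem_ideal_iff (f.ker ^ k) hV a).symm.trans ?_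
    rw [Scheme.IdealSheafData.ideal_pow, Pi.pow_apply]
  let eM : Γ(M, V) ≃ₗ[A] ↥(f.ker.ideal ⟨V, hV⟩ ^ k) :=
    LinearEquiv.ofInjective ιV (Groth.L18.IdealModule.exact_sections (f.ker ^ k) V).1 ≪≫ₗ LinearEquiv.ofEq _ _ hr
  haveI : Module.Flat C (C ⊗[A] ↥(f.ker.ideal ⟨V, hV⟩ ^ k)) :=
    Module.Flat.of_linearEquiv ((LinearEquiv.baseChange A C _ _ eM.symm).trans hbc.equiv)
  exact Module.Flat.trans B C _

set_option maxHeartbeats 800000 in
theorem mono_pullback_idealι_section (g : X ⟶ Y) (f : Y ⟶ X) [IsClosedImmersion f] (hf : f ≫ g = 𝟙 Y)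
    (u : Y' ⟶ Y) (v : X' ⟶ X) (g' : X' ⟶ Y') (hsq : IsPullback v g' g u) (n : ℕ)
    (hflat : ∀ k < n, k ≠ 0 → FlatMod.IsFlat (PrinPart.grMod f k)) :
    Mono ((Scheme.Modules.pullback v).map (ClSub.idealModι (f.ker ^ n))) := by
  haveI := Groth.L19.Conormal.isQCoh_structureModule X
  haveI : Coh.IsQCoh ((Scheme.Modules.pullback v).obj (ClSub.idealMod (f.ker ^ n))) :=
    Groth.L16.AffineBC.isQCoh_pullback v _
  haveI : Coh.IsQCoh ((Scheme.Modules.pullback v).obj (Coh.structureModule X)) :=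
    Groth.L16.AffineBC.isQCoh_pullback v _
  refine (Groth.L21.Mod.mono_iff_stalk_injective _).2 fun x => ?_
  obtain ⟨W, V, W', U, eV, eW, eU, eU', hW, hV, hW', hU, hx, hpo⟩ :=
    Groth.L20.ModStalk.exists_affine_square hsq x
  refine stalk_injective_of_affine _ hU ?_ hx
  let B := Γ(Y, W)
  let A := Γ(X, V)
  let B' := Γ(Y', W')
  let A' := Γ(X', U)
  let C := Γ(Y, f ⁻¹ᵁ V)
  letI : Algebra B A := (g.appLE W V eV).hom.toAlgebra
  letI : Algebra B B' := (u.appLE W W' eW).hom.toAlgebra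
  letI : Algebra A A' := (v.appLE V U eU).hom.toAlgebra
  letI : Algebra B' A' := (g'.appLE W' U eU').hom.toAlgebra
  letI : Algebra B A' := ((g.appLE W V eV) ≫ (v.appLE V U eU)).hom.toAlgebra
  haveI : IsScalarTower B A A' := IsScalarTower.of_algebraMap_eq fun _ => rfl
  haveI : IsScalarTower B B' A' := IsScalarTower.of_algebraMap_eq fun a => ConcreteCategory.congr_hom hpo.w a
  haveI : Algebra.IsPushout B A B' A' := CommRingCat.isPushout_iff_isPushout.mp hpo
  haveI : Algebra.IsPushout B B' A A' := Algebra.IsPushout.symm inferInstance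
  let E := Algebra.IsPushout.equiv B B' A A'
  -- the ring of the section
  letI : Algebra A C := (f.app V).hom.toAlgebra
  letI : Algebra B C := ((g.appLE W V eV) ≫ f.app V).hom.toAlgebra
  haveI : IsScalarTower B A C := IsScalarTower.of_algebraMap_eq fun _ => rfl
  have hCflat : Module.Flat B C := by
    haveI : Flat (f ≫ g) := by rw [hf]; infer_instance
    have h : ((g.appLE W V eV) ≫ f.app V).hom.Flat := by
      rw [Scheme.Hom.app_eq_appLE, Scheme.Hom.appLE_comp_appLE]
      exact HasRingHomProperty.appLE (P := @Flat) (f ≫ g) inferInstance ⟨W, hW⟩ ⟨_, hV.preimage f⟩ _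
    exact h
  have hs : Function.Surjective (algebraMap A C) := f.app_surjective V hV
  have hk : RingHom.ker (algebraMap A C) = f.ker.ideal ⟨V, hV⟩ := (f.ker_apply ⟨V, hV⟩).symm
  have hgr : ∀ k < n, Module.Flat B (C ⊗[A] ↥(f.ker.ideal ⟨V, hV⟩ ^ k)) := fun k hk => by
    by_cases hk0 : k = 0
    · subst hk0
      exact Module.Flat.of_linearEquiv
        ((TensorProduct.congr (LinearEquiv.refl A C)
          ((LinearEquiv.ofEq _ _ ((pow_zero _).trans Ideal.one_eq_top)).trans Submodule.topEquiv)).trans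
          (TensorProduct.rid A C) |>.restrictScalars B)
    · exact flat_gr_sections f hV (hflat k hk hk0)
  haveI hQ : Module.Flat B (A ⧸ f.ker.ideal ⟨V, hV⟩ ^ n) := flat_quot_pow _ hs hk n hgr
  -- sections over the chart
  let M := ClSub.idealMod (f.ker ^ n)
  let O := Coh.structureModule X
  let Q := (Scheme.Modules.pullback v).obj M
  letI : Module A Γ(Q, U) := Module.compHom _ (v.appLE V U eU).hom
  haveI : IsScalarTower A A' Γ(Q, U) := IsScalarTower.of_algebraMap_smul fun _ _ => rfl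
  have hpull : IsBaseChange A' (Groth.L16.AffineBC.pullRes v M eU) :=
    Groth.L16.AffineBC.isBaseChange_pull v M hV hU eU
  letI : Module B Γ(M, V) := Module.compHom _ (g.appLE W V eV).hom
  haveI : IsScalarTower B A Γ(M, V) := IsScalarTower.of_algebraMap_smul fun _ _ => rfl
  let ι : Γ(M, V) →ₗ[A] A :=
    { toFun := fun m => (ClSub.idealModι (f.ker ^ n)).app V m
      map_add' := fun a b => map_add _ a b
      map_smul' := fun r m => (ClSub.idealModι (f.ker ^ n)).app_smul r m }
  have hrange : ∀ a : A, a ∈ Set.range (ι.restrictScalars B) ↔ a ∈ f.ker.ideal ⟨V, hV⟩ ^ n := fun a =>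
    (Groth.L18.IdealModule.mem_ideal_iff (f.ker ^ n) hV a).symm.trans
      (by rw [Scheme.IdealSheafData.ideal_pow, Pi.pow_apply])
  have hιB : Function.Injective ((ι.restrictScalars B).lTensor B') :=
    Groth.L05.Glue.lTensor_injective_of_flat_coker (ι.restrictScalars B)
      ((Submodule.mkQ (f.ker.ideal ⟨V, hV⟩ ^ n)).restrictScalars B)
      (Groth.L18.IdealModule.exact_sections (f.ker ^ n) V).1
      (fun a => (Submodule.Quotient.mk_eq_zero _).trans (hrange a).symm)
      (Submodule.mkQ_surjective _) B'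
  let ψ : Γ(Q, U) →+ A' := AddMonoidHom.mk' (fun q => (Groth.L29.LocFree.pullbackUnitIso v).hom.app U
      (((Scheme.Modules.pullback v).map (ClSub.idealModι (f.ker ^ n))).app U q)) fun a b => by
    rw [map_add, map_add]
  suffices hψ : Function.Injective ψ by
    intro a b hab
    exact hψ (congrArg ((Groth.L29.LocFree.pullbackUnitIso v).hom.app U) hab)
  refine injective_of_pushout (Groth.L16.AffineBC.pullRes v M eU) hpull ι hιB ψ (fun a q => ?_) fun m => ?_
  · exact (congrArg ((Groth.L29.LocFree.pullbackUnitIso v).hom.app U)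
      (((Scheme.Modules.pullback v).map (ClSub.idealModι (f.ker ^ n))).app_smul a q)).trans
        ((Groth.L29.LocFree.pullbackUnitIso v).hom.app_smul a _)
  · refine (congrArg ((Groth.L29.LocFree.pullbackUnitIso v).hom.app U)
      ((Groth.L17.BC.PullSec.app_rs ((Scheme.Modules.pullback v).map (ClSub.idealModι (f.ker ^ n))) eU _).trans
        (congrArg (Groth.L18.Frame.rs _ eU) (Groth.L17.BC.PullSec.map_pull v (ClSub.idealModι (f.ker ^ n)) V m)))).trans ?_
    refine (Groth.L17.BC.PullSec.app_rs (Groth.L29.LocFree.pullbackUnitIso v).hom eU _).trans ?_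
    exact congrArg (X'.presheaf.map (homOfLE eU).op)
      (congrArg (fun k : Coh.structureModule X ⟶ (Coh.push v).obj (Coh.structureModule X') =>
        k.app V ((ClSub.idealModι (f.ker ^ n)).app V m)) (Groth.L16.Exist.Adic.unit_pullbackUnitIso v))

/-- The canonical maps of graded pieces of sections. -/
theorem isIso_grMap_section (g : X ⟶ Y) (f : Y ⟶ X) [IsClosedImmersion f] (hf : f ≫ g = 𝟙 Y)
    (u : Y' ⟶ Y) (v : X' ⟶ X) (g' : X' ⟶ Y') (hsq : IsPullback v g' g u) (f' : Y' ⟶ X')
    (hf' : f' ≫ g' = 𝟙 Y') (hf'v : f' ≫ v = u ≫ f) (n : ℕ)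
    (hflat : ∀ k < n, k ≠ 0 → FlatMod.IsFlat (PrinPart.grMod f k))
    (φ : (Scheme.Modules.pullback u).obj (PrinPart.grMod f n) ⟶ PrinPart.grMod f' n)
    (hφ : PrinPart.IsGrMap f' f v u n φ) : IsIso φ := by
  refine (grMap_eq f v u f' ?_ n φ hφ).2 (mono_pullback_idealι_section g f hf u v g' hsq n hflat)
  refine (IsPullback.of_right (h₁₂ := g') (h₂₂ := g) ?_ hf'v hsq.flip).flip
  rw [hf', hf]
  exact IsPullback.of_horiz_isIso ⟨by simp⟩

end Groth.L07.PrinParts
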