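import Groth.Agent.L14.PPLocal
import Mathlib.RingTheory.Nilpotent.Basic

/-!
Local rings of the neighbourhoods of the diagonal (EGA IV 16.4.14).
-/

universe u

open scoped TensorProduct

namespace Groth.L07.PrinParts

set_option linter.style.haveILetI false

attribute [local instance] PP16.mapAlgebra PP16.isScalarTower_mapAlgebra

/-- A localisation of `P^n` at units for the first projection is `P^n` of the localisation. -/
theorem exists_equiv_of_localization (n : ℕ) (A B R : Type u) [CommRing A] [CommRing B] [Algebra A B]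
    [CommRing R] [Algebra B R] [Algebra A R] [IsScalarTower A B R] (M : Submonoid B) [IsLocalization M R]
    (O : Type u) [CommRing O] (g : PP16.P n A B →+* O) (p1 p2 : R →+* O) [IsLocalHom p1]
    (h1 : ∀ b, g (Ideal.Quotient.mk _ (b ⊗ₜ[A] (1 : B))) = p1 (algebraMap B R b))
    (h2 : ∀ b, g (Ideal.Quotient.mk _ ((1 : B) ⊗ₜ[A] b)) = p2 (algebraMap B R b))
    (hsurj : ∀ o, ∃ y d, IsUnit (g d) ∧ o * g d = g y)
    (hker : ∀ y, g y = 0 → ∃ d, IsUnit (g d) ∧ d * y = 0) :
    ∃ θ : PP16.P n A R →+* O, Function.Bijective θ ∧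
      (∀ c : R, θ (Ideal.Quotient.mk _ (c ⊗ₜ[A] (1 : R))) = p1 c) ∧
      (∀ c : R, θ (Ideal.Quotient.mk _ ((1 : R) ⊗ₜ[A] c)) = p2 c) := by
  haveI := Groth.L14.PP.isLocalization_P n A B R M
  have hunit : ∀ s : M.map (algebraMap B (PP16.P n A B)), IsUnit (g s) := by
    rintro ⟨_, b, hb, rfl⟩
    change IsUnit (g (Ideal.Quotient.mk _ (b ⊗ₜ[A] (1 : B))))
    rw [h1]
    exact (IsLocalization.map_units R ⟨b, hb⟩).map p1
  let θ : PP16.P n A R →+* O := IsLocalization.lift hunit
  have hθ : ∀ y, θ (PP16.map n A B A R y) = g y := fun y => IsLocalization.lift_eq hunit y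
  have hd : ∀ d, IsUnit (g d) → IsUnit (PP16.map n A B A R d) := by
    intro d hu
    obtain ⟨w, rfl⟩ := Ideal.Quotient.mk_surjective d
    let c0 : B := Algebra.TensorProduct.lmul' A (S := B) w
    let ν : PP16.P n A B := Ideal.Quotient.mk _ (w - c0 ⊗ₜ[A] (1 : B))
    have hν : IsNilpotent ν := ⟨n + 1, by
      rw [← map_pow, Ideal.Quotient.eq_zero_iff_mem]
      refine Ideal.pow_mem_pow ?_ (n + 1)
      change Algebra.TensorProduct.lmul' A (S := B) (w - c0 ⊗ₜ[A] (1 : B)) = 0
      rw [map_sub, Algebra.TensorProduct.lmul'_apply_tmul, mul_one, sub_self]⟩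
    have he : Ideal.Quotient.mk _ w = Ideal.Quotient.mk _ (c0 ⊗ₜ[A] (1 : B)) + ν := by
      rw [← map_add, add_sub_cancel]
    have hu1 : IsUnit (g (Ideal.Quotient.mk _ (c0 ⊗ₜ[A] (1 : B)))) := by
      have h := (hν.map g).neg.isUnit_add_left_of_commute hu (Commute.all _ _)
      rwa [he, map_add, add_neg_cancel_right] at h
    rw [h1] at hu1
    have hc : IsUnit (algebraMap B R c0) := IsUnit.of_map p1 _ hu1
    have hu2 : IsUnit (PP16.map n A B A R (Ideal.Quotient.mk _ (c0 ⊗ₜ[A] (1 : B)))) := by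
      rw [show (Ideal.Quotient.mk _ (c0 ⊗ₜ[A] (1 : B)) : PP16.P n A B) = algebraMap B _ c0 from rfl,
        PP16.map_algebraMap]
      exact hc.map _
    rw [he, map_add]
    exact (hν.map (PP16.map n A B A R)).isUnit_add_left_of_commute hu2 (Commute.all _ _)
  refine ⟨θ, ⟨?_, fun o => ?_⟩, fun c => ?_, fun c => ?_⟩
  · rw [injective_iff_map_eq_zero]
    intro a ha
    obtain ⟨⟨y, s⟩, hys⟩ := IsLocalization.surj (M.map (algebraMap B (PP16.P n A B))) a
    change a * PP16.map n A B A R (s : PP16.P n A B) = PP16.map n A B A R y at hys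
    have hy : g y = 0 := by rw [← hθ, ← hys, map_mul, ha, zero_mul]
    obtain ⟨d, hdu, hdy⟩ := hker y hy
    have hy' : PP16.map n A B A R y = 0 :=
      (hd d hdu).mul_right_eq_zero.mp (by rw [← map_mul, hdy, map_zero])
    rw [hy'] at hys
    exact (IsLocalization.map_units (PP16.P n A R) s).mul_left_eq_zero.mp hys
  · obtain ⟨y, d, hu, ho⟩ := hsurj o
    obtain ⟨v, hv⟩ := (hd d hu).exists_right_inv
    refine ⟨PP16.map n A B A R y * v, hu.mul_left_injective ?_⟩
    change θ (PP16.map n A B A R y * v) * g d = o * g d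
    rw [ho, ← hθ d, ← hθ y, ← map_mul, mul_assoc, mul_comm v, hv, mul_one]
  · refine RingHom.congr_fun (f := θ.comp (algebraMap R (PP16.P n A R)))
      (IsLocalization.ringHom_ext M (RingHom.ext fun b => ?_)) c
    refine (congrArg θ (PP16.map_algebraMap n A B A R b).symm).trans ((hθ _).trans (h1 b))
  · refine RingHom.congr_fun (f := θ.comp (PP16.dn n A R).toRingHom)
      (IsLocalization.ringHom_ext M (RingHom.ext fun b => ?_)) c
    exact (congrArg θ (PP16.map_dn n A B A R b).symm).trans ((hθ _).trans (h2 b))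

end Groth.L07.PrinParts
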