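import Groth.Agent.L07.PrinParts.Affine
import Groth.Agent.L29.LocFree
import Groth.Agent.L16.Exist.AlgClosed

/-!
Sections of the sheaf of principal parts (EGA IV 16.3.6, 16.4.3).
-/

universe u

open CategoryTheory CategoryTheory.Limits AlgebraicGeometry TopologicalSpace Topology
open scoped TensorProduct

namespace Groth.L07.PrinParts

set_option linter.style.haveILetI false
set_option maxSynthPendingDepth 3
set_option backward.isDefEq.respectTransparency.types false
set_option backward.isDefEq.respectTransparency false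

variable {X S : Scheme.{u}} (f : X ⟶ S) (n : ℕ)

/-- The sections of `P^n` are the functions on the neighbourhood. -/
theorem exists_sections_equiv (U : X.Opens) :
    ∃ κ : Γ(PrinPart.P f n, U) ≃+ Γ(PrinPart.nbhd f n, PrinPart.pr1 f n ⁻¹ᵁ U),
      (∀ (a : Γ(X, U)) (x : Γ(PrinPart.P f n, U)), κ (a • x) = (PrinPart.pr1 f n).app U a * κ x) ∧
      (∀ b : Γ(X, U), κ (PrinPart.dn f n U b) =
        (PrinPart.pr2 f n).appLE U (PrinPart.pr1 f n ⁻¹ᵁ U) (PrinPart.preimage_pr1 f n U).le b) := by
  let g := PrinPart.pr2 f n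
  let e := Groth.L29.LocFree.pullbackUnitIso g
  let W := PrinPart.pr1 f n ⁻¹ᵁ U
  let M := (Scheme.Modules.pullback g).obj (Coh.structureModule X)
  have hbij : Function.Bijective (e.hom.app W) := ConcreteCategory.bijective_of_isIso (e.hom.app W)
  let κ : Γ(PrinPart.P f n, U) →+ Γ(PrinPart.nbhd f n, W) :=
    AddMonoidHom.mk' (fun x => e.hom.app W (show Γ(M, W) from x)) fun x y =>
      map_add (e.hom.app W).hom (show Γ(M, W) from x) (show Γ(M, W) from y)
  refine ⟨AddEquiv.ofBijective κ hbij, fun a x => ?_, fun b => ?_⟩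
  · exact e.hom.app_smul ((PrinPart.pr1 f n).app U a) (show Γ(M, W) from x)
  · show e.hom.app W (M.presheaf.map (homOfLE (PrinPart.preimage_pr1 f n U).le).op
      (OmegaSh.pullSect g (Coh.structureModule X) U (OmegaSh.strSect X U b))) = _
    have h1 := congrArg (fun k : Coh.structureModule X ⟶ (Coh.push g).obj (Coh.structureModule (PrinPart.nbhd f n)) =>
      k.app U (OmegaSh.strSect X U b)) (Groth.L16.Exist.Adic.unit_pullbackUnitIso g)
    have h2 := ConcreteCategory.congr_hom
      (e.hom.mapPresheaf.naturality (homOfLE (PrinPart.preimage_pr1 f n U).le).op)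
      (OmegaSh.pullSect g (Coh.structureModule X) U (OmegaSh.strSect X U b))
    refine (Eq.trans h2 ?_)
    exact congrArg ((PrinPart.nbhd f n).presheaf.map (homOfLE (PrinPart.preimage_pr1 f n U).le).op) h1

/-- The comparison map of tensor squares along isomorphisms. -/
theorem tensorMap_bijective_ideal {A B A' B' : Type u} [CommRing A] [CommRing B] [Algebra A B]
    [CommRing A'] [CommRing B'] [Algebra A' B'] [Algebra A A'] [Algebra B B'] [Algebra A B']
    [IsScalarTower A A' B'] [IsScalarTower A B B']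
    (hA : Function.Surjective (algebraMap A A')) (hB : Function.Bijective (algebraMap B B')) :
    Function.Bijective (PP16.tensorMap A B A' B') ∧
      (KaehlerDifferential.ideal A B).map (PP16.tensorMap A B A' B').toRingHom =
        KaehlerDifferential.ideal A' B' := by
  let T := PP16.tensorMap A B A' B'
  let eB : B ≃+* B' := RingEquiv.ofBijective (algebraMap B B') hB
  have hT : ∀ b c : B, T (b ⊗ₜ c) = eB b ⊗ₜ[A'] eB c := fun b c => PP16.tensorMap_tmul A B A' B' b c
  have hr : ∀ (a : A) (z : B'), eB.symm (algebraMap A A' a • z) = a • eB.symm z := fun a z => by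
    rw [Algebra.smul_def, Algebra.smul_def, map_mul]
    refine congrArg (· * eB.symm z) ?_
    rw [← IsScalarTower.algebraMap_apply A A' B', IsScalarTower.algebraMap_apply A B B']
    exact eB.symm_apply_apply _
  let back : B' ⊗[A'] B' →+ B ⊗[A] B := TensorProduct.liftAddHom
    (AddMonoidHom.mk' (fun b => AddMonoidHom.mk' (fun c => eB.symm b ⊗ₜ[A] eB.symm c) fun c c' => by
      rw [map_add, TensorProduct.tmul_add]) fun b b' => by
      ext c
      exact (congrArg (· ⊗ₜ[A] eB.symm c) (map_add eB.symm b b')).trans (TensorProduct.add_tmul _ _ _))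
    fun r b c => by
      obtain ⟨a, rfl⟩ := hA r
      show eB.symm (algebraMap A A' a • b) ⊗ₜ[A] eB.symm c =
        eB.symm b ⊗ₜ[A] eB.symm (algebraMap A A' a • c)
      rw [hr, hr, TensorProduct.smul_tmul]
  have hback : ∀ b c : B', back (b ⊗ₜ[A'] c) = eB.symm b ⊗ₜ[A] eB.symm c := fun b c => rfl
  have hTbij : Function.Bijective T := by
    refine ⟨Function.LeftInverse.injective (g := back) fun x => ?_, fun y => ?_⟩
    · induction x using TensorProduct.induction_on with
      | zero => rw [map_zero, map_zero]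
      | add a b ha hb => rw [map_add, map_add, ha, hb]
      | tmul b c => rw [hT, hback, eB.symm_apply_apply, eB.symm_apply_apply]
    · induction y using TensorProduct.induction_on with
      | zero => exact ⟨0, map_zero _⟩
      | add a b ha hb =>
        obtain ⟨a', rfl⟩ := ha
        obtain ⟨b', rfl⟩ := hb
        exact ⟨a' + b', map_add _ _ _⟩
      | tmul b c => exact ⟨eB.symm b ⊗ₜ eB.symm c, by rw [hT, eB.apply_symm_apply, eB.apply_symm_apply]⟩
  refine ⟨hTbij, le_antisymm (PP16.ideal_map_tensorMap_le A B A' B') ?_⟩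
  rw [← KaehlerDifferential.span_range_eq_ideal, Ideal.span_le]
  rintro _ ⟨b, rfl⟩
  obtain ⟨b, rfl⟩ := eB.surjective b
  have h := Ideal.mem_map_of_mem T.toRingHom
    (KaehlerDifferential.one_smul_sub_smul_one_mem_ideal A b)
  change T ((1 : B) ⊗ₜ[A] b - b ⊗ₜ[A] (1 : B)) ∈ _ at h
  rwa [map_sub, hT, hT, map_one] at h

theorem affine_globalSections (A B : Type u) [CommRing A] [CommRing B] [Algebra A B]
    (ψ : TensorProduct A B B →+
      Γ(PrinPart.P (Spec.map (CommRingCat.ofHom (algebraMap A B))) n, (⊤ : (Spec (CommRingCat.of B)).Opens)))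
    (hψ : ∀ b b' : B, ψ (b ⊗ₜ[A] b') =
      (Scheme.ΓSpecIso (CommRingCat.of B)).inv b •
        PrinPart.dn (Spec.map (CommRingCat.ofHom (algebraMap A B))) n ⊤
          ((Scheme.ΓSpecIso (CommRingCat.of B)).inv b')) :
    Function.Surjective ψ ∧ ψ.ker = (KaehlerDifferential.ideal A B ^ (n + 1)).toAddSubgroup := by
  let q := Spec.map (CommRingCat.ofHom (algebraMap A B))
  let iA := (Scheme.ΓSpecIso (CommRingCat.of A)).inv
  let iB := (Scheme.ΓSpecIso (CommRingCat.of B)).inv
  let A' := Γ(Spec (CommRingCat.of A), ⊤)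
  let B' := Γ(Spec (CommRingCat.of B), ⊤)
  letI : Algebra A' B' := (q.appLE ⊤ ⊤ le_top).hom.toAlgebra
  obtain ⟨-, Φ, hΦ, hΦ1, hΦ2⟩ := exists_affine_iso q (isAffineOpen_top (Spec (CommRingCat.of B)))
    (isAffineOpen_top (Spec (CommRingCat.of A))) le_top n
  obtain ⟨κ, hκs, hκd⟩ := exists_sections_equiv q n (⊤ : (Spec (CommRingCat.of B)).Opens)
  have hab : ∀ a : A, q.appLE ⊤ ⊤ le_top (iA a) = iB (algebraMap A B a) := fun a => by
    rw [show q.appLE ⊤ ⊤ le_top = q.appTop from (Scheme.Hom.app_eq_appLE _).symm]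
    exact (ConcreteCategory.congr_hom
      (Scheme.ΓSpecIso_inv_naturality (CommRingCat.ofHom (algebraMap A B))) a).symm
  letI : Algebra A A' := iA.hom.toAlgebra
  letI : Algebra B B' := iB.hom.toAlgebra
  letI : Algebra A B' := (iB.hom.comp (algebraMap A B)).toAlgebra
  haveI : IsScalarTower A A' B' := IsScalarTower.of_algebraMap_eq fun a => (hab a).symm
  haveI : IsScalarTower A B B' := IsScalarTower.of_algebraMap_eq fun a => rfl
  have hA : Function.Surjective (algebraMap A A') := fun y =>
    ⟨_, Iso.hom_inv_id_apply (Scheme.ΓSpecIso (CommRingCat.of A)) y⟩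
  have hB : Function.Bijective (algebraMap B B') := ConcreteCategory.bijective_of_isIso iB
  let T := PP16.tensorMap A B A' B'
  obtain ⟨hTbij, hI⟩ := tensorMap_bijective_ideal (A := A) (B := B) (A' := A') (B' := B') hA hB
  have hT : ∀ b c : B, T (b ⊗ₜ c) = iB b ⊗ₜ[A'] iB c := fun b c => PP16.tensorMap_tmul A B A' B' b c
  have key : ∀ x : B ⊗[A] B, κ (ψ x) = Φ (Ideal.Quotient.mk _ (T x)) := fun x => by
    induction x using TensorProduct.induction_on with
    | zero => simp only [map_zero]
    | add a b ha hb => simp only [map_add, ha, hb]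
    | tmul b c =>
      have e : iB b ⊗ₜ[A'] iB c = (iB b ⊗ₜ[A'] (1 : B')) * ((1 : B') ⊗ₜ[A'] iB c) := by
        rw [Algebra.TensorProduct.tmul_mul_tmul, mul_one, one_mul]
      rw [hψ, hκs, hκd, hT, e]
      refine (congrArg₂ (· * ·) (hΦ1 (iB b)).symm (hΦ2 (iB c)).symm).trans ?_
      exact ((map_mul Φ _ _).symm).trans (congrArg Φ ((Ideal.Quotient.mk _).map_mul _ _).symm)
  constructor
  · intro z
    obtain ⟨p, hp⟩ := hΦ.2 (κ z)
    obtain ⟨y, rfl⟩ := Ideal.Quotient.mk_surjective p
    obtain ⟨x, rfl⟩ := hTbij.2 y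
    exact ⟨x, κ.injective ((key x).trans hp)⟩
  · ext x
    rw [AddMonoidHom.mem_ker, Submodule.mem_toAddSubgroup, ← κ.map_eq_zero_iff, key,
      map_eq_zero_iff Φ hΦ.1, Ideal.Quotient.eq_zero_iff_mem, ← hI, ← Ideal.map_pow]
    refine ⟨fun h => ?_, fun h => Ideal.mem_map_of_mem _ h⟩
    obtain ⟨y, hy, hyx⟩ := (Ideal.mem_map_iff_of_surjective T.toRingHom hTbij.2).mp h
    exact hTbij.1 hyx ▸ hy

end Groth.L07.PrinParts
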