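import Groth.Agent.L07.PrinParts.Affine
import Groth.Agent.L07.PrinParts.LocalRing
import Groth.Agent.L17.ClosedPush

/-!
Stalks of sheaves of principal parts and their generation (EGA IV 16.3.8, 16.7.1).
-/

universe u

open CategoryTheory CategoryTheory.Limits AlgebraicGeometry TopologicalSpace Topology
open scoped TensorProduct

namespace Groth.L07.PrinParts

set_option linter.style.haveILetI false
set_option maxSynthPendingDepth 3
set_option backward.isDefEq.respectTransparency.types false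
set_option backward.isDefEq.respectTransparency false

variable {X S : Scheme.{u}} (f : X ⟶ S) (n : ℕ) (x' : PrinPart.nbhd f n)

/-- The stalk map of the first projection, read at `pr2 x'`. -/
noncomputable def p1 :
    X.presheaf.stalk (PrinPart.pr2 f n x') ⟶ (PrinPart.nbhd f n).presheaf.stalk x' :=
  X.presheaf.stalkSpecializes (specializes_of_eq (PrinPart.pr1_apply f n x')) ≫
    (PrinPart.pr1 f n).stalkMap x'

theorem isLocalHom_p1 : IsLocalHom (p1 f n x').hom := by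
  have key : ∀ (z : X) (e : PrinPart.pr1 f n x' = z), IsLocalHom
      (X.presheaf.stalkSpecializes (specializes_of_eq e) ≫ (PrinPart.pr1 f n).stalkMap x').hom := by
    rintro z rfl
    rw [TopCat.Presheaf.stalkSpecializes_refl, Category.id_comp]
    infer_instance
  exact key _ (PrinPart.pr1_apply f n x')

theorem p1_germ {U : X.Opens} (hz : PrinPart.pr2 f n x' ∈ U) (hz' : x' ∈ PrinPart.pr1 f n ⁻¹ᵁ U)
    (a : Γ(X, U)) :
    p1 f n x' (X.presheaf.germ U _ hz a) =
      (PrinPart.nbhd f n).presheaf.germ (PrinPart.pr1 f n ⁻¹ᵁ U) x' hz'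
        ((PrinPart.pr1 f n).app U a) := by
  unfold p1
  rw [← CommRingCat.comp_apply, TopCat.Presheaf.germ_stalkSpecializes_assoc, CommRingCat.comp_apply]
  exact Scheme.Hom.germ_stalkMap_apply _ U x' hz' a

theorem p2_germ {U : X.Opens} (hz : PrinPart.pr2 f n x' ∈ U) (hz' : x' ∈ PrinPart.pr1 f n ⁻¹ᵁ U)
    (a : Γ(X, U)) :
    (PrinPart.pr2 f n).stalkMap x' (X.presheaf.germ U _ hz a) =
      (PrinPart.nbhd f n).presheaf.germ (PrinPart.pr1 f n ⁻¹ᵁ U) x' hz'
        ((PrinPart.pr2 f n).appLE U (PrinPart.pr1 f n ⁻¹ᵁ U) (PrinPart.preimage_pr1 f n U).le a) := by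
  rw [Scheme.Hom.germ_stalkMap_apply, Scheme.Hom.appLE, CommRingCat.comp_apply,
    TopCat.Presheaf.germ_res_apply]

/-- The algebra structure of a local ring over an affine open of the base. -/
noncomputable abbrev stalkAlg {V : S.Opens} {U : X.Opens} (hUV : U ≤ f ⁻¹ᵁ V) {z : X} (hz : z ∈ U) :
    Algebra Γ(S, V) (X.presheaf.stalk z) :=
  ((f.appLE V U hUV) ≫ X.presheaf.germ U z hz).hom.toAlgebra

/-- The local ring of the neighbourhood is `P^n` of the local ring. -/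
theorem exists_stalk_equiv {U : X.Opens} (hU : IsAffineOpen U) {V : S.Opens} (hV : IsAffineOpen V)
    (hUV : U ≤ f ⁻¹ᵁ V) (hz : PrinPart.pr2 f n x' ∈ U) :
    letI := stalkAlg f hUV hz
    ∃ θ : PP16.P n Γ(S, V) (X.presheaf.stalk (PrinPart.pr2 f n x')) →+*
        (PrinPart.nbhd f n).presheaf.stalk x', Function.Bijective θ ∧
      (∀ c, θ (Ideal.Quotient.mk _ (c ⊗ₜ[Γ(S, V)] (1 : X.presheaf.stalk (PrinPart.pr2 f n x')))) =
        p1 f n x' c) ∧
      (∀ c, θ (Ideal.Quotient.mk _ ((1 : X.presheaf.stalk (PrinPart.pr2 f n x')) ⊗ₜ[Γ(S, V)] c)) =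
        (PrinPart.pr2 f n).stalkMap x' c) := by
  let z := PrinPart.pr2 f n x'
  let R := X.presheaf.stalk z
  letI := stalkAlg f hUV hz
  letI : Algebra Γ(S, V) Γ(X, U) := (f.appLE V U hUV).hom.toAlgebra
  letI : Algebra Γ(X, U) R := X.presheaf.algebra_section_stalk ⟨z, hz⟩
  haveI : IsScalarTower Γ(S, V) Γ(X, U) R := IsScalarTower.of_algebraMap_eq fun a => rfl
  haveI : IsLocalization (hU.primeIdealOf ⟨z, hz⟩).asIdeal.primeCompl R := hU.isLocalization_stalk ⟨z, hz⟩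
  haveI := isLocalHom_p1 f n x'
  obtain ⟨hW, Φ, hΦ, hΦ1, hΦ2⟩ := exists_affine_iso f hU hV hUV n
  have hzW : x' ∈ PrinPart.pr1 f n ⁻¹ᵁ U := (PrinPart.preimage_pr1 f n U).symm.le hz
  let W := PrinPart.pr1 f n ⁻¹ᵁ U
  let O := (PrinPart.nbhd f n).presheaf.stalk x'
  let gW := ((PrinPart.nbhd f n).presheaf.germ W x' hzW).hom
  letI : Algebra Γ(PrinPart.nbhd f n, W) O := gW.toAlgebra
  haveI : IsLocalization (hW.primeIdealOf ⟨x', hzW⟩).asIdeal.primeCompl O := hW.isLocalization_stalk ⟨x', hzW⟩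
  refine exists_equiv_of_localization n Γ(S, V) Γ(X, U) R (hU.primeIdealOf ⟨z, hz⟩).asIdeal.primeCompl O
    (gW.comp Φ) (p1 f n x').hom ((PrinPart.pr2 f n).stalkMap x').hom (fun b => ?_) (fun b => ?_)
    (fun o => ?_) (fun y hy => ?_)
  · exact (congrArg gW (hΦ1 b)).trans (p1_germ f n x' hz hzW b).symm
  · exact (congrArg gW (hΦ2 b)).trans (p2_germ f n x' hz hzW b).symm
  · obtain ⟨⟨w, s⟩, h⟩ := IsLocalization.surj (hW.primeIdealOf ⟨x', hzW⟩).asIdeal.primeCompl o
    obtain ⟨y, hy⟩ := hΦ.2 w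
    obtain ⟨d, hd⟩ := hΦ.2 (s : Γ(PrinPart.nbhd f n, W))
    have hs : IsUnit (algebraMap Γ(PrinPart.nbhd f n, W) O s) := IsLocalization.map_units O s
    refine ⟨y, d, ?_, ?_⟩
    · change IsUnit (gW (Φ d)); rw [hd]; exact hs
    · change o * gW (Φ d) = gW (Φ y); rw [hd, hy]; exact h
  · change algebraMap Γ(PrinPart.nbhd f n, W) O (Φ y) = 0 at hy
    obtain ⟨s, hs⟩ := (IsLocalization.map_eq_zero_iff
      (hW.primeIdealOf ⟨x', hzW⟩).asIdeal.primeCompl O (Φ y)).mp hy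
    obtain ⟨d, hd⟩ := hΦ.2 (s : Γ(PrinPart.nbhd f n, W))
    refine ⟨d, ?_, hΦ.1 ?_⟩
    · change IsUnit (gW (Φ d)); rw [hd]; exact IsLocalization.map_units O s
    · rw [map_mul, map_zero, hd]; exact hs

/-- The pure tensors in the stalk of `P^n(F)`. -/
theorem stalkIso_dP (F : X.Modules) {U : X.Opens} (hz : PrinPart.pr2 f n x' ∈ U)
    (hz' : x' ∈ PrinPart.pr1 f n ⁻¹ᵁ U) (t : Γ(F, U)) :
    ((Groth.L00.PullStalk.stalkIso (PrinPart.pr2 f n) x').hom.app F)
      (((Scheme.Modules.pullback (PrinPart.pr2 f n)).obj F).presheaf.germ (PrinPart.pr1 f n ⁻¹ᵁ U) x' hz'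
        (PrinPart.dP f n F U t)) =
    (ModuleCat.extendRestrictScalarsAdj (Groth.L00.PullStalk.φ (PrinPart.pr2 f n) x')).unit.app
      ((Groth.L00.Stk.F X (PrinPart.pr2 f n x')).obj F) (F.presheaf.germ U _ hz t) := by
  refine Eq.trans (congrArg _ ?_) (Groth.L17.ClosedPush.stalkIso_unit_germ (PrinPart.pr2 f n) F x' hz t)
  rw [PrinPart.dP_apply]
  exact TopCat.Presheaf.germ_res_apply ((Scheme.Modules.pullback (PrinPart.pr2 f n)).obj F).presheaf _ x' hz' _

end Groth.L07.PrinParts
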