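import Groth.Prelude.Def_OmegaPn
import Mathlib.AlgebraicGeometry.IdealSheaf.Functorial

/-!
The symmetry of the neighbourhoods of the diagonal (EGA IV 16.3.4).
-/

universe u

open CategoryTheory CategoryTheory.Limits AlgebraicGeometry TopologicalSpace Topology

namespace Groth.L07.PrinParts

set_option linter.style.haveILetI false

theorem map_pow_le {X Y : Scheme.{u}} (I : X.IdealSheafData) (g : X ⟶ Y) [IsAffineHom g] (m : ℕ) :
    (I.map g) ^ m ≤ (I ^ m).map g := by
  intro U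
  rw [Scheme.IdealSheafData.ideal_pow, Pi.pow_apply, Scheme.IdealSheafData.ideal_map_of_isAffineHom,
    Scheme.IdealSheafData.ideal_map_of_isAffineHom, Scheme.IdealSheafData.ideal_pow, Pi.pow_apply]
  exact Ideal.le_comap_pow _ m

theorem exists_infNbhd_endo {X Z : Scheme.{u}} (i : Z ⟶ X) (σ : X ⟶ X) [IsIso σ] (h : i ≫ σ = i) (n : ℕ) :
    ∃ τ : PrinPart.infNbhd i n ⟶ PrinPart.infNbhd i n,
      τ ≫ PrinPart.infNbhdι i n = PrinPart.infNbhdι i n ≫ σ := by
  refine ⟨Scheme.IdealSheafData.subschemeMap _ _ σ ?_, ?_⟩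
  · refine le_trans (le_of_eq ?_) (map_pow_le i.ker σ (n + 1))
    rw [Scheme.IdealSheafData.map_ker, h]
  · exact Scheme.IdealSheafData.subschemeMap_subschemeι _ _ σ _

theorem mono_nbhdι {X S : Scheme.{u}} (f : X ⟶ S) (n : ℕ) : Mono (PrinPart.nbhdι f n) := by
  unfold PrinPart.nbhdι PrinPart.infNbhdι
  infer_instance

theorem exists_symmetry {X S : Scheme.{u}} (f : X ⟶ S) (n : ℕ) :
    ∃ σ : PrinPart.nbhd f n ⟶ PrinPart.nbhd f n,
      σ ≫ PrinPart.nbhdι f n = PrinPart.nbhdι f n ≫ (pullbackSymmetry f f).hom ∧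
      σ ≫ σ = 𝟙 (PrinPart.nbhd f n) ∧
      σ ≫ PrinPart.pr1 f n = PrinPart.pr2 f n ∧ σ ≫ PrinPart.pr2 f n = PrinPart.pr1 f n ∧
      PrinPart.toNbhd f n ≫ σ = PrinPart.toNbhd f n := by
  haveI := mono_nbhdι f n
  let s := (pullbackSymmetry f f).hom
  let C := (pullback.diagonal f).coborderRange
  have hs : pullback.diagonal f ≫ s = pullback.diagonal f := by
    apply pullback.hom_ext <;> simp [s]
  have hss : s ≫ s = 𝟙 _ := by
    apply pullback.hom_ext <;> simp [s]
  have hC : s ⁻¹ᵁ C = C := by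
    apply Opens.ext
    change (s : _ → _) ⁻¹' coborder (Set.range (pullback.diagonal f)) = coborder (Set.range (pullback.diagonal f))
    refine (_root_.coborder_preimage (f := s.homeomorph) s.homeomorph.isOpenMap s.homeomorph.continuous _).symm.trans ?_
    congr 1
    ext w
    constructor
    · rintro ⟨x, hx⟩
      refine ⟨x, ?_⟩
      have h2 := congrArg s hx
      change _ = s (s w) at h2
      rw [← Scheme.Hom.comp_apply, hs, ← Scheme.Hom.comp_apply, hss] at h2
      exact h2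
    · rintro ⟨x, rfl⟩
      exact ⟨x, show pullback.diagonal f x = s (pullback.diagonal f x) by rw [← Scheme.Hom.comp_apply, hs]⟩
  let s0 : (C : Scheme.{u}) ⟶ C := IsOpenImmersion.lift C.ι (C.ι ≫ s) (by
    rw [Scheme.Opens.range_ι]
    rintro _ ⟨w, rfl⟩
    have : C.ι w ∈ s ⁻¹ᵁ C := by rw [hC]; exact w.2
    exact this)
  have hs0 : s0 ≫ C.ι = C.ι ≫ s := IsOpenImmersion.lift_fac _ _ _
  have hs0' : s0 ≫ s0 = 𝟙 _ := by
    rw [← cancel_mono C.ι, Category.assoc, hs0, reassoc_of% hs0, hss, Category.comp_id, Category.id_comp]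
  haveI : IsIso s0 := ⟨s0, hs0', hs0'⟩
  have hd : PrinPart.diagCl f ≫ s0 = PrinPart.diagCl f := by
    rw [← cancel_mono C.ι, Category.assoc, hs0, Scheme.Hom.liftCoborder_ι_assoc, hs,
      Scheme.Hom.liftCoborder_ι]
  obtain ⟨σ, hσ⟩ := exists_infNbhd_endo (PrinPart.diagCl f) s0 hd n
  have h1 : σ ≫ PrinPart.nbhdι f n = PrinPart.nbhdι f n ≫ s := by
    rw [PrinPart.nbhdι, reassoc_of% hσ, hs0, Category.assoc]
  refine ⟨σ, h1, ?_, ?_, ?_, ?_⟩
  · rw [← cancel_mono (PrinPart.nbhdι f n), Category.assoc, h1, reassoc_of% h1, hss, Category.comp_id,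
      Category.id_comp]
  · rw [PrinPart.pr1, PrinPart.pr2, reassoc_of% h1, pullbackSymmetry_hom_comp_fst]
  · rw [PrinPart.pr1, PrinPart.pr2, reassoc_of% h1, pullbackSymmetry_hom_comp_snd]
  · rw [← cancel_mono (PrinPart.nbhdι f n), Category.assoc, h1, PrinPart.toNbhd_ι_assoc, hs,
      PrinPart.toNbhd_ι]

end Groth.L07.PrinParts
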